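import Mathlib

/-!
# Odd-order groups with two vectors of trivial common stabiliser: basics
-/

set_option autoImplicit false
set_option linter.unusedSectionVars false
set_option linter.style.haveILetI false
set_option linter.unusedSimpArgs false

namespace Cfsg.Agent.OP71

section Defs

variable (G V : Type) [Group G] [AddCommGroup V] [DistribMulAction G V]

/-- completely reducible -/
def CR : Prop :=
  ∀ U : AddSubgroup V, (∀ g : G, ∀ v ∈ U, g • v ∈ U) →
    ∃ W : AddSubgroup V, (∀ g : G, ∀ w ∈ W, g • w ∈ W) ∧ U ⊓ W = ⊥ ∧ U ⊔ W = ⊤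

/-- a pair with trivial common stabiliser -/
def Reg : Prop :=
  ∃ v w : V, ∀ g : G, g • v = v → g • w = w → ∀ x : V, g • x = x

end Defs

/-- the main statement up to cardinality `n` -/
def MainUpTo (n : ℕ) : Prop :=
  ∀ (G V : Type) [Group G] [Finite G] [AddCommGroup V] [Finite V] [DistribMulAction G V],
    Odd (Nat.card G) → CR G V → Nat.card V ≤ n → Reg G V

/-- regular subsets for odd-order permutation groups up to degree `n` -/
def GluckUpTo (n : ℕ) : Prop :=
  ∀ (G Ω : Type) [Group G] [Finite G] [Finite Ω] [MulAction G Ω],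
    Odd (Nat.card G) → Nat.card Ω ≤ n →
      ∃ S : Set Ω, ∀ g : G, (∀ x, g • x ∈ S ↔ x ∈ S) → ∀ x : Ω, g • x = x

section Act

variable {G : Type*} [Group G] [Finite G] {X : Type*} [MulAction G X]

theorem pow_eq_self_of_odd (hodd : Odd (Nat.card G)) (g : G) :
    ∃ k : ℕ, (g ^ 2) ^ k = g := by
  obtain ⟨k, hk⟩ := hodd.of_dvd_nat (orderOf_dvd_natCard g)
  refine ⟨k + 1, ?_⟩
  rw [← pow_mul, show 2 * (k + 1) = orderOf g + 1 by omega, pow_succ, pow_orderOf_eq_one, one_mul]

theorem fix_of_sq_fix (hodd : Odd (Nat.card G)) {g : G} {x : X} (h : g ^ 2 • x = x) :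
    g • x = x := by
  obtain ⟨k, hk⟩ := pow_eq_self_of_odd hodd g
  have : g ^ 2 ∈ MulAction.stabilizer G x := h
  have := (MulAction.stabilizer G x).pow_mem this k
  rwa [hk] at this

theorem fix_of_swap (hodd : Odd (Nat.card G)) {g : G} {x y : X} (h1 : g • x = y) (h2 : g • y = x) :
    g • x = x := by
  apply fix_of_sq_fix hodd
  rw [sq, mul_smul, h1, h2]

end Act

/-- the image of the action as a permutation group, acting by automorphisms -/
@[reducible] def permAct (G V : Type) [Group G] [AddCommGroup V] [DistribMulAction G V] :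
    DistribMulAction (MulAction.toPermHom G V).range V where
  smul f v := f.1 v
  one_smul v := rfl
  mul_smul f g v := rfl
  smul_zero f := by
    obtain ⟨a, ha⟩ := f.2
    show f.1 0 = 0
    rw [← ha]
    exact smul_zero a
  smul_add f v w := by
    obtain ⟨a, ha⟩ := f.2
    show f.1 (v + w) = f.1 v + f.1 w
    rw [← ha]
    exact smul_add a v w

theorem odd_range {G H : Type*} [Group G] [Group H] [Finite G] (hodd : Odd (Nat.card G))
    (f : G →* H) : Odd (Nat.card f.range) :=
  hodd.of_dvd_nat (Subgroup.card_range_dvd f)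

theorem card_le_sq_of_reg {G V : Type} [Group G] [Finite G] [AddCommGroup V] [Finite V]
    [DistribMulAction G V] (hf : FaithfulSMul G V) (h : Reg G V) :
    Nat.card G ≤ Nat.card V ^ 2 := by
  obtain ⟨v, w, hvw⟩ := h
  rw [sq, ← Nat.card_prod]
  apply Nat.card_le_card_of_injective (fun g : G => (g • v, g • w))
  intro a b hab
  simp only [Prod.mk.injEq] at hab
  have : b⁻¹ * a = 1 := hf.eq_of_smul_eq_smul fun x => by
    rw [one_smul]
    exact hvw _ (by rw [mul_smul, hab.1, inv_smul_smul]) (by rw [mul_smul, hab.2, inv_smul_smul]) x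
  exact (inv_mul_eq_one.1 this).symm

theorem card_natPrime_pow_eq {V : Type*} [AddCommGroup V] [Finite V] {r : ℕ} (hr : r.Prime)
    (hexp : ∀ v : V, r • v = 0) : ∃ d : ℕ, Nat.card V = r ^ d := by
  haveI := Fact.mk hr
  have h : IsPGroup r (Multiplicative V) := fun x => ⟨1, by
    rw [pow_one]
    exact congrArg Multiplicative.ofAdd (hexp x.toAdd)⟩
  obtain ⟨d, hd⟩ := IsPGroup.iff_card.1 h
  exact ⟨d, by rw [← hd]; exact (Nat.card_congr Multiplicative.ofAdd).trans rfl⟩

/-- a normal `r`-subgroup is trivial on a completely reducible `r`-module -/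
theorem normal_pgroup_trivial {G V : Type} [Group G] [Finite G] [AddCommGroup V] [Finite V]
    [DistribMulAction G V] (hcr : CR G V) {r : ℕ} (hr : r.Prime) (hexp : ∀ v : V, r • v = 0)
    (R : Subgroup G) [R.Normal] (hR : IsPGroup r R) (x : G) (hx : x ∈ R) (v : V) :
    x • v = v := by
  haveI := Fact.mk hr
  let U : AddSubgroup V :=
    { carrier := {u | ∀ y ∈ R, y • u = u}
      add_mem' := fun ha hb y hy => by rw [smul_add, ha y hy, hb y hy]
      zero_mem' := fun y _ => smul_zero y
      neg_mem' := fun ha y hy => by rw [smul_neg, ha y hy] }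
  have hU : ∀ g : G, ∀ u ∈ U, g • u ∈ U := fun g u hu y hy => by
    have h2 := hu (g⁻¹ * y * g) (Subgroup.Normal.conj_mem' inferInstance y hy g)
    rw [smul_smul y g, show y * g = g * (g⁻¹ * y * g) by group, mul_smul, h2]
  obtain ⟨W, hW, hdis, hsup⟩ := hcr U hU
  have hWbot : W = ⊥ := by
    letI : MulAction R W :=
      { smul := fun y w => ⟨(y : G) • (w : V), hW _ _ w.2⟩
        one_smul := fun w => Subtype.ext (one_smul G (w : V))
        mul_smul := fun a b w => Subtype.ext (mul_smul (a : G) (b : G) (w : V)) }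
    by_contra hne
    have hpos : r ∣ Nat.card W := by
      obtain ⟨d, hd⟩ := card_natPrime_pow_eq (V := W) hr (fun w => Subtype.ext (by simpa using hexp w))
      have h1 : 1 < Nat.card W := by
        by_contra hle
        exact hne (AddSubgroup.eq_bot_of_card_le W (by omega))
      rcases d with _ | d
      · rw [hd, pow_zero] at h1; omega
      · exact hd ▸ dvd_pow_self r (Nat.succ_ne_zero d)
    have h0 : (0 : W) ∈ MulAction.fixedPoints R W := fun y => Subtype.ext (smul_zero (y : G))
    obtain ⟨w, hw, hne0⟩ := hR.exists_fixed_point_of_prime_dvd_card_of_fixed_point W hpos h0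
    have hwU : (w : V) ∈ U := fun y hy => congrArg Subtype.val (hw ⟨y, hy⟩)
    have : (w : V) ∈ U ⊓ W := ⟨hwU, w.2⟩
    rw [hdis, AddSubgroup.mem_bot] at this
    exact hne0 (Subtype.ext this.symm)
  rw [hWbot, sup_bot_eq] at hsup
  have hv : v ∈ U := by rw [hsup]; exact AddSubgroup.mem_top v
  exact hv x hx

/-- a group with no characteristic `r`-subgroup whose order divides `r ^ a * s` -/
theorem card_le_of_no_char_pgroup {H : Type*} [Group H] [Finite H] [Group.IsSolvable H]
    {r a s : ℕ} (hr : r.Prime) (hs : s.Prime ∨ s = 1) (hrs : s ≠ r)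
    (hdiv : Nat.card H ∣ r ^ a * s)
    (hno : ∀ R : Subgroup H, R.Characteristic → IsPGroup r R → R = ⊥) :
    Nat.card H ≤ s * (s - 1) ∨ Nat.card H = 1 := by
  rcases hs with hs | rfl
  swap
  · right
    rw [mul_one] at hdiv
    obtain ⟨b, -, hb⟩ := (Nat.dvd_prime_pow hr).1 hdiv
    have := hno ⊤ inferInstance ((IsPGroup.of_card hb).to_subgroup ⊤)
    rw [← Subgroup.card_top (G := H), this, Subgroup.card_bot]
  haveI := Fact.mk hr
  haveI := Fact.mk hs
  -- abelian characteristic subgroups have exponent s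
  have habel : ∀ B : Subgroup H, B.Characteristic → (∀ x ∈ B, ∀ y ∈ B, x * y = y * x) →
      B ≠ ⊥ → Nat.card B = s := by
    intro B hB hcomm hne
    let R : Subgroup H :=
      { carrier := {x | x ∈ B ∧ x ^ r ^ a = 1}
        mul_mem' := fun {x y} hx hy => ⟨B.mul_mem hx.1 hy.1, by
          rw [Commute.mul_pow (hcomm x hx.1 y hy.1), hx.2, hy.2, one_mul]⟩
        one_mem' := ⟨B.one_mem, one_pow _⟩
        inv_mem' := fun hx => ⟨B.inv_mem hx.1, by rw [inv_pow, hx.2, inv_one]⟩ }
    have hRc : R.Characteristic := Subgroup.characteristic_iff_le_comap.2 fun φ x hx => by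
      refine ⟨?_, ?_⟩
      · exact (Subgroup.characteristic_iff_le_comap.1 hB φ) hx.1
      · rw [MulEquiv.coe_toMonoidHom, ← map_pow, hx.2, map_one]
    have hRb := hno R hRc (fun x => ⟨a, Subtype.ext (by simpa using x.2.2)⟩)
    have hs1 : ∀ x ∈ B, x ^ s = 1 := by
      intro x hx
      have h1 : x ^ s ∈ R := ⟨B.pow_mem hx s, by
        rw [← pow_mul, mul_comm, ← orderOf_dvd_iff_pow_eq_one]
        exact (orderOf_dvd_natCard x).trans hdiv⟩
      rwa [hRb, Subgroup.mem_bot] at h1
    have hp : IsPGroup s B := fun x => ⟨1, Subtype.ext (by simpa using hs1 x x.2)⟩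
    obtain ⟨b, hb⟩ := IsPGroup.iff_card.1 hp
    have hd : s ^ b ∣ r ^ a * s := hb ▸ (Subgroup.card_subgroup_dvd_card B).trans hdiv
    have hco : Nat.Coprime (s ^ b) (r ^ a) :=
      Nat.Coprime.pow _ _ ((Nat.coprime_primes hs hr).2 hrs)
    have hd2 : s ^ b ∣ s ^ 1 := by rw [pow_one]; exact hco.dvd_of_dvd_mul_left hd
    have hb1 : b ≤ 1 := Nat.pow_dvd_pow_iff_le_right hs.one_lt |>.1 hd2
    rcases Nat.eq_zero_or_pos b with h | h
    · exact absurd (Subgroup.eq_bot_of_card_eq B (by rw [hb, h, pow_zero])) hne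
    · rw [hb, show b = 1 by omega, pow_one]
  rcases subsingleton_or_nontrivial H with hsub | hnt
  · exact Or.inr (Nat.card_eq_one_iff_unique.2 ⟨hsub, ⟨1⟩⟩)
  left
  -- an abelian characteristic subgroup
  obtain ⟨A₀, hA₀c, hA₀, hA₀ne⟩ : ∃ A₀ : Subgroup H, A₀.Characteristic ∧
      (∀ x ∈ A₀, ∀ y ∈ A₀, x * y = y * x) ∧ A₀ ≠ ⊥ := by
    obtain ⟨n, hn⟩ := Group.IsSolvable.solvable (G := H)
    have hex : ∃ k, derivedSeries H k ≠ ⊥ ∧ derivedSeries H (k + 1) = ⊥ := by
      by_contra hno'
      push Not at hno'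
      have : ∀ k, derivedSeries H k ≠ ⊥ := fun k => by
        induction k with
        | zero => rw [derivedSeries_zero]; exact top_ne_bot
        | succ k ih => exact hno' k ih
      exact this n hn
    obtain ⟨k, hk1, hk2⟩ := hex
    refine ⟨derivedSeries H k, derivedSeries_characteristic H k, fun x hx y hy => ?_, hk1⟩
    rw [derivedSeries_succ] at hk2
    have := Subgroup.commutator_mem_commutator hx hy
    rw [hk2, Subgroup.mem_bot] at this
    exact commutatorElement_eq_one_iff_mul_comm.1 this
  have hcard := habel A₀ hA₀c hA₀ hA₀ne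
  let C := Subgroup.centralizer (A₀ : Set H)
  have hCc : C.Characteristic := Subgroup.characteristic_iff_le_comap.2 fun φ x hx => by
    rw [Subgroup.mem_comap, Subgroup.mem_centralizer_iff]
    intro y hy
    have h1 : φ.symm y ∈ A₀ := (Subgroup.characteristic_iff_le_comap.1 hA₀c φ.symm) hy
    have h2 := congrArg φ (Subgroup.mem_centralizer_iff.1 hx _ h1)
    simp only [map_mul, MulEquiv.apply_symm_apply] at h2
    exact h2
  have hle : A₀ ≤ C := fun x hx => Subgroup.mem_centralizer_iff.2 fun y hy => hA₀ y hy x hx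
  -- the centralizer is abelian
  have hk : ∃ b, (Subgroup.center C).index = r ^ b := by
    have h1 : (A₀.subgroupOf C) ≤ Subgroup.center C := fun x hx => by
      rw [Subgroup.mem_center_iff]
      intro y
      exact Subtype.ext (Subgroup.mem_centralizer_iff.1 y.2 x.1 hx).symm
    have h2 := Subgroup.index_dvd_of_le h1
    have h3 : (A₀.subgroupOf C).index ∣ r ^ a := by
      have h4 : (A₀.subgroupOf C).index * s ∣ r ^ a * s := by
        rw [← hcard, ← Nat.card_congr (Subgroup.subgroupOfEquivOfLe hle).toEquiv,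
          Subgroup.index_mul_card]
        exact (Subgroup.card_subgroup_dvd_card C).trans (by rw [Nat.card_congr (Subgroup.subgroupOfEquivOfLe hle).toEquiv, hcard]; exact hdiv)
      exact Nat.dvd_of_mul_dvd_mul_right hs.pos h4
    obtain ⟨b, -, hb⟩ := (Nat.dvd_prime_pow hr).1 (h2.trans h3)
    exact ⟨b, hb⟩
  obtain ⟨b, hb⟩ := hk
  let f := MonoidHom.transferCenterPow C
  have hfker : f.ker = ⊥ := by
    have hmap : (f.ker.map C.subtype) = ⊥ := by
      refine hno _ (Subgroup.characteristic_iff_le_comap.2 ?_) ?_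
      · intro φ x hx
        rw [Subgroup.mem_map] at hx
        obtain ⟨⟨x, hxC⟩, hxk, rfl⟩ := hx
        rw [Subgroup.mem_comap, Subgroup.mem_map]
        refine ⟨⟨φ x, (Subgroup.characteristic_iff_le_comap.1 hCc φ) hxC⟩, ?_, rfl⟩
        rw [MonoidHom.mem_ker] at hxk ⊢
        have h1 := congrArg (fun z : Subgroup.center C => ((z : C) : H)) hxk
        simp only [f, MonoidHom.transferCenterPow_apply, SubmonoidClass.coe_pow,
          Subgroup.coe_one, OneMemClass.coe_one] at h1
        apply Subtype.ext; apply Subtype.ext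
        simp only [f, MonoidHom.transferCenterPow_apply, SubmonoidClass.coe_pow,
          Subgroup.coe_one, OneMemClass.coe_one]
        rw [← map_pow, h1, map_one]
      · rintro ⟨x, hx⟩
        obtain ⟨y, hy, rfl⟩ := Subgroup.mem_map.1 hx
        refine ⟨b, Subtype.ext ?_⟩
        rw [MonoidHom.mem_ker] at hy
        have h1 := congrArg (fun z : Subgroup.center C => ((z : C) : H)) hy
        simpa [f, MonoidHom.transferCenterPow_apply, hb] using h1
    exact (Subgroup.map_eq_bot_iff_of_injective _ (Subgroup.subtype_injective C)).1 hmap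
  have hCcomm : ∀ x ∈ C, ∀ y ∈ C, x * y = y * x := by
    intro x hx y hy
    have hinj : Function.Injective f := (MonoidHom.ker_eq_bot_iff f).1 hfker
    have : (⟨x, hx⟩ : C) * ⟨y, hy⟩ = ⟨y, hy⟩ * ⟨x, hx⟩ := hinj (by
      rw [map_mul, map_mul]
      exact Subtype.ext (Subgroup.mem_center_iff.1 (f ⟨y, hy⟩).2 _))
    exact congrArg Subtype.val this
  have hCcard : Nat.card C = s :=
    habel C hCc hCcomm (fun h => hA₀ne (le_bot_iff.1 (h ▸ hle)))
  haveI : A₀.Normal := Subgroup.normal_of_characteristic A₀
  haveI : IsCyclic A₀ := isCyclic_of_prime_card hcard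
  have hker : (MulAut.conjNormal : H →* MulAut A₀).ker ≤ C := fun x hx => by
    rw [Subgroup.mem_centralizer_iff]
    intro y hy
    have h1 := congrArg (fun φ : MulAut A₀ => ((φ ⟨y, hy⟩ : A₀) : H)) hx
    simp only [MulAut.conjNormal_apply, MulAut.one_apply] at h1
    rw [mul_inv_eq_iff_eq_mul] at h1
    exact h1.symm
  have h1 : Nat.card (MulAut.conjNormal : H →* MulAut A₀).range ≤ s - 1 := by
    have := Subgroup.card_le_card_group (MulAut.conjNormal : H →* MulAut A₀).range
    rwa [IsCyclic.card_mulAut, hcard, Nat.totient_prime hs] at this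
  calc Nat.card H = Nat.card (MulAut.conjNormal : H →* MulAut A₀).ker *
        (MulAut.conjNormal : H →* MulAut A₀).ker.index := (Subgroup.card_mul_index _).symm
    _ ≤ s * (s - 1) := by
      rw [Subgroup.index_ker]
      exact Nat.mul_le_mul (hCcard ▸ Subgroup.card_le_of_le hker) h1

/-- a faithful linear group has order dividing that of the general linear group -/
theorem card_dvd_gl_aux {H W : Type} [Group H] [Finite H] [AddCommGroup W] [Finite W]
    [DistribMulAction H W] [FaithfulSMul H W] {r d : ℕ} [Fact r.Prime] [Module (ZMod r) W]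
    (hcard : Nat.card W = r ^ d) :
    Nat.card H ∣ ∏ i : Fin d, (r ^ d - r ^ (i : ℕ)) := by
  have hr : r.Prime := Fact.out
  haveI : Module.Finite (ZMod r) W := Module.Finite.of_finite
  have hfin : Module.finrank (ZMod r) W = d := by
    have h := @Module.natCard_eq_pow_finrank (ZMod r) W _ _ _ (Module.Finite.of_finite)
    rw [hcard, Nat.card_zmod] at h
    exact (Nat.pow_right_injective hr.two_le h).symm
  let b : Module.Basis (Fin d) (ZMod r) W :=
    (Module.finBasis (ZMod r) W).reindex (finCongr hfin)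
  let f0 : H →* Module.End (ZMod r) W :=
    { toFun := fun h => (DistribSMul.toAddMonoidHom W h).toZModLinearMap r
      map_one' := by
        ext w
        simp
      map_mul' := fun x y => by
        ext w
        simp [mul_smul] }
  let f : H →* GL (Fin d) (ZMod r) :=
    (Units.map (LinearMap.toMatrixAlgEquiv b).toMonoidHom).comp f0.toHomUnits
  have hinj : Function.Injective f := by
    intro x y hxy
    have h1 : f0 x = f0 y := by
      have := congrArg Units.val hxy
      exact (LinearMap.toMatrixAlgEquiv b).injective this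
    exact FaithfulSMul.eq_of_smul_eq_smul fun w : W => LinearMap.congr_fun h1 w
  have h := Subgroup.card_dvd_of_injective f hinj
  rw [Matrix.card_GL_field, ZMod.card] at h
  exact h

/-- a faithful linear group has order dividing that of the general linear group -/
theorem card_dvd_gl {H W : Type} [Group H] [Finite H] [AddCommGroup W] [Finite W]
    [DistribMulAction H W] [FaithfulSMul H W] {r d : ℕ} (hr : r.Prime) (hexp : ∀ w : W, r • w = 0)
    (hcard : Nat.card W = r ^ d) :
    Nat.card H ∣ ∏ i : Fin d, (r ^ d - r ^ (i : ℕ)) :=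
  haveI := Fact.mk hr
  haveI : Module (ZMod r) W := AddCommGroup.zmodModule hexp
  card_dvd_gl_aux hcard

end Cfsg.Agent.OP71
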