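import Cfsg.Agent.Lib.OddPair71.Basic

/-!
# Field or system of imprimitivity attached to an abelian normal subgroup
-/

set_option autoImplicit false
set_option linter.unusedSectionVars false
set_option linter.style.haveILetI false

namespace Cfsg.Agent.OP71

/-- a system of imprimitivity given by orthogonal projections -/
structure Sys (G V : Type) [Group G] [AddCommGroup V] [DistribMulAction G V] where
  ι : Type
  fin : Finite ι
  act : MulAction G ι
  trans : ∀ i j : ι, ∃ g : G, g • i = j
  two : ∃ i j : ι, i ≠ j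
  proj : ι → V →+ V
  orth : ∀ i j x, i ≠ j → proj i (proj j x) = 0
  idem : ∀ i x, proj i (proj i x) = proj i x
  ext : ∀ x y, (∀ i, proj i x = proj i y) → x = y
  ne : ∀ i, ∃ x, proj i x ≠ 0
  equiv : ∀ (g : G) i x, g • proj i x = proj (g • i) (g • x)

variable {G V : Type} [Group G] [AddCommGroup V] [DistribMulAction G V]

/-- the image of `g` among the additive endomorphisms -/
abbrev phi (g : G) : AddMonoid.End V := DistribMulAction.toAddMonoidEnd G V g

theorem phi_apply (g : G) (v : V) : phi g v = g • v := rfl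

/-- the subring generated by the image of a subgroup -/
def envelope (A : Subgroup G) : Subring (AddMonoid.End V) :=
  Subring.closure ((fun g : G => (phi g : AddMonoid.End V)) '' (A : Set G))

theorem phi_mem_envelope {A : Subgroup G} {a : G} (ha : a ∈ A) :
    (phi a : AddMonoid.End V) ∈ envelope A :=
  Subring.subset_closure ⟨a, ha, rfl⟩

theorem envelope_comm {A : Subgroup G} (hA : ∀ x ∈ A, ∀ y ∈ A, x * y = y * x)
    {k l : AddMonoid.End V} (hk : k ∈ envelope A) (hl : l ∈ envelope A) : k * l = l * k := by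
  haveI : IsMulCommutative (envelope (V := V) A) := Subring.isMulCommutative_closure (by
    rintro _ ⟨x, hx, rfl⟩ _ ⟨y, hy, rfl⟩
    show phi x * phi y = phi y * phi x
    rw [← map_mul, hA x hx y hy, map_mul])
  exact congrArg Subtype.val (IsMulCommutative.is_comm.comm (⟨k, hk⟩ : envelope A) ⟨l, hl⟩)

/-- conjugation by a group element -/
def cj (g : G) (f : AddMonoid.End V) : AddMonoid.End V := phi g * f * phi g⁻¹

theorem cj_apply (g : G) (f : AddMonoid.End V) (v : V) : cj g f v = g • f (g⁻¹ • v) := rfl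

theorem cj_one (f : AddMonoid.End V) : cj (1 : G) f = f := by
  ext v; simp [cj_apply]

theorem cj_mul (g h : G) (f : AddMonoid.End V) : cj (g * h) f = cj g (cj h f) := by
  ext v; simp [cj_apply, mul_smul]

theorem cj_mul' (g : G) (f f' : AddMonoid.End V) : cj g (f * f') = cj g f * cj g f' := by
  ext v
  show g • f (f' (g⁻¹ • v)) = g • f (g⁻¹ • (g • f' (g⁻¹ • v)))
  rw [inv_smul_smul]

theorem cj_add (g : G) (f f' : AddMonoid.End V) : cj g (f + f') = cj g f + cj g f' := by
  ext v
  show g • (f (g⁻¹ • v) + f' (g⁻¹ • v)) = g • f (g⁻¹ • v) + g • f' (g⁻¹ • v)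
  rw [smul_add]

theorem cj_zero (g : G) : cj g (0 : AddMonoid.End V) = 0 := by
  ext v
  show g • (0 : V) = 0
  rw [smul_zero]

theorem cj_phi (g a : G) : cj g (phi a : AddMonoid.End V) = phi (g * a * g⁻¹) := by
  simp [cj, map_mul]

theorem cj_mem {A : Subgroup G} [A.Normal] (g : G) {f : AddMonoid.End V} (hf : f ∈ envelope A) :
    cj g f ∈ envelope A := by
  let ψ : AddMonoid.End V →+* AddMonoid.End V :=
    { toFun := cj g
      map_one' := by ext v; simp [cj_apply]
      map_mul' := cj_mul' g
      map_zero' := cj_zero g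
      map_add' := cj_add g }
  suffices envelope A ≤ (envelope A).comap ψ from this hf
  refine Subring.closure_le.2 ?_
  rintro _ ⟨a, ha, rfl⟩
  show cj g (phi a) ∈ envelope A
  rw [cj_phi]
  exact phi_mem_envelope (Subgroup.Normal.conj_mem inferInstance a ha g)

theorem exists_idempotent_pow {M : Type*} [Monoid M] [Finite M] (x : M) :
    ∃ m, 0 < m ∧ x ^ m * x ^ m = x ^ m := by
  obtain ⟨a, b, hne, hab⟩ := Finite.exists_ne_map_eq_of_infinite (fun n : ℕ => x ^ n)
  wlog hlt : a < b generalizing a b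
  · exact this b a hne.symm hab.symm (by omega)
  have hper : ∀ j n, a ≤ n → x ^ (n + j * (b - a)) = x ^ n := by
    intro j
    induction j with
    | zero => intro n _; simp
    | succ j ih =>
      intro n hn
      rw [show n + (j + 1) * (b - a) = (n + j * (b - a) - a) + b by
        rw [Nat.add_mul, one_mul]; omega, pow_add, ← hab, ← pow_add,
        Nat.sub_add_cancel (by omega), ih n hn]
  refine ⟨(a + 1) * (b - a), Nat.mul_pos (by omega) (by omega), ?_⟩
  rw [← pow_add]
  exact hper (a + 1) _ (by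
    calc a ≤ (a + 1) * 1 := by omega
      _ ≤ _ := Nat.mul_le_mul_left _ (by omega))

variable [Finite V]

theorem exists_common_kill [Nontrivial V] (s : Finset (AddMonoid.End V))
    (hnil : ∀ k ∈ s, IsNilpotent k) (hcomm : ∀ k ∈ s, ∀ l ∈ s, k * l = l * k) :
    ∃ v : V, v ≠ 0 ∧ ∀ k ∈ s, k v = 0 := by
  classical
  induction s using Finset.induction with
  | empty => exact ⟨(exists_ne 0).choose, (exists_ne 0).choose_spec, by simp⟩
  | @insert k s hks ih =>
    obtain ⟨v, hv, hkill⟩ := ih (fun l hl => hnil l (Finset.mem_insert_of_mem hl))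
      (fun l hl m hm => hcomm l (Finset.mem_insert_of_mem hl) m (Finset.mem_insert_of_mem hm))
    obtain ⟨N, hN⟩ := hnil k (Finset.mem_insert_self k s)
    have hex : ∃ j, (k ^ j) v = 0 := ⟨N, by rw [hN]; rfl⟩
    have h0 : Nat.find hex ≠ 0 := by
      intro h
      have := Nat.find_spec hex
      rw [h, pow_zero] at this
      exact hv this
    obtain ⟨j, hj⟩ := Nat.exists_eq_succ_of_ne_zero h0
    refine ⟨(k ^ j) v, Nat.find_min hex (by omega), ?_⟩
    intro l hl
    rcases Finset.mem_insert.1 hl with rfl | hl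
    · show (l * l ^ j) v = 0
      rw [← pow_succ']
      have := Nat.find_spec hex
      rwa [hj] at this
    · show (l * k ^ j) v = 0
      rw [(Commute.pow_right (hcomm l (Finset.mem_insert_of_mem hl) k
        (Finset.mem_insert_self k s)) j).eq]
      show (k ^ j) (l v) = 0
      rw [hkill l hl, map_zero]

/-- either the envelope of an abelian normal subgroup is a field or the module is imprimitive -/
theorem field_or_sys [Finite G] [Nontrivial V]
    (hirr : ∀ U : AddSubgroup V, (∀ g : G, ∀ v ∈ U, g • v ∈ U) → U = ⊥ ∨ U = ⊤)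
    (A : Subgroup G) [A.Normal] (hA : ∀ x ∈ A, ∀ y ∈ A, x * y = y * x) :
    (∀ k ∈ envelope A, k ≠ (0 : AddMonoid.End V) → ∃ l ∈ envelope A, k * l = 1) ∨
      Nonempty (Sys G V) := by
  classical
  haveI : Finite (AddMonoid.End V) :=
    Finite.of_injective (fun f : AddMonoid.End V => (f : V → V)) DFunLike.coe_injective
  -- reduced
  have hred : ∀ k ∈ envelope A, IsNilpotent k → k = (0 : AddMonoid.End V) := by
    let U : AddSubgroup V :=
      { carrier := {v | ∀ k ∈ envelope A, IsNilpotent k → (k : AddMonoid.End V) v = 0}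
        add_mem' := fun ha hb k hk hn => by rw [map_add, ha k hk hn, hb k hk hn, add_zero]
        zero_mem' := fun k _ _ => map_zero k
        neg_mem' := fun ha k hk hn => by rw [map_neg, ha k hk hn, neg_zero] }
    have hU : ∀ g : G, ∀ v ∈ U, g • v ∈ U := fun g v hv k hk ⟨N, hN⟩ => by
      have hpow : ∀ n, cj g⁻¹ k ^ n = cj g⁻¹ (k ^ n) := fun n => by
        induction n with
        | zero => ext x; simp [cj_apply]
        | succ n ih => rw [pow_succ, pow_succ, ih, cj_mul']
      have h1 := hv _ (cj_mem g⁻¹ hk) ⟨N, by rw [hpow, hN, cj_zero]⟩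
      rw [cj_apply, inv_inv] at h1
      have h2 := congrArg (g • ·) h1
      simpa using h2
    obtain ⟨v, hv, hkill⟩ := exists_common_kill
      ((Set.toFinite {k : AddMonoid.End V | k ∈ envelope A ∧ IsNilpotent k}).toFinset)
      (fun k hk => ((Set.Finite.mem_toFinset _).1 hk).2)
      (fun k hk l hl => envelope_comm hA ((Set.Finite.mem_toFinset _).1 hk).1
        ((Set.Finite.mem_toFinset _).1 hl).1)
    intro k hk hn
    rcases hirr U hU with h | h
    · have hvU : v ∈ U := fun k hk hn => hkill k ((Set.Finite.mem_toFinset _).2 ⟨hk, hn⟩)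
      rw [h, AddSubgroup.mem_bot] at hvU
      exact absurd hvU hv
    · ext x
      have hx : x ∈ U := by rw [h]; exact AddSubgroup.mem_top x
      exact hx k hk hn
  by_cases hall : ∀ e ∈ envelope A, e * e = e → e = (0 : AddMonoid.End V) ∨ e = 1
  · left
    intro k hk hne
    obtain ⟨m, hm, hid⟩ := exists_idempotent_pow k
    rcases hall _ (Subring.pow_mem _ hk m) hid with h | h
    · exact absurd (hred k hk ⟨m, h⟩) hne
    · exact ⟨k ^ (m - 1), Subring.pow_mem _ hk _, by
        rw [← pow_succ', Nat.sub_add_cancel hm]; exact h⟩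
  right
  push Not at hall
  obtain ⟨e₁, he₁K, he₁i, he₁0, he₁1⟩ := hall
  let S := {f : AddMonoid.End V | f ∈ envelope A ∧ f * f = f ∧ f ≠ 0}
  let sz : AddMonoid.End V → ℕ := fun f => Nat.card (Set.range (f : V → V))
  obtain ⟨e, ⟨heK, hei, he0⟩, hmin⟩ :=
    Set.exists_min_image S sz (Set.toFinite _) ⟨e₁, he₁K, he₁i, he₁0⟩
  have happ : ∀ (f : AddMonoid.End V), f * f = f → ∀ x, f (f x) = f x := fun f hf x =>
    congrArg (fun F : AddMonoid.End V => F x) hf
  -- two conjugates of `e` are equal or orthogonal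
  have hcjS : ∀ g : G, cj g e ∈ S := fun g =>
    ⟨cj_mem g heK, by rw [← cj_mul', hei], fun h => he0 (by
      have := congrArg (cj g⁻¹) h
      rwa [← cj_mul, inv_mul_cancel, cj_one, cj_zero] at this)⟩
  have hszcj : ∀ g : G, sz (cj g e) = sz e := fun g => by
    apply Nat.card_congr
    refine ⟨fun y => ⟨g⁻¹ • y.1, ?_⟩, fun y => ⟨g • y.1, ?_⟩, fun y => Subtype.ext (smul_inv_smul g _),
      fun y => Subtype.ext (inv_smul_smul g _)⟩
    · obtain ⟨x, hx⟩ := y.2
      exact ⟨g⁻¹ • x, by rw [← hx, cj_apply, inv_smul_smul]⟩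
    · obtain ⟨x, hx⟩ := y.2
      exact ⟨g • x, by rw [← hx, cj_apply, inv_smul_smul]⟩
  have hrange : ∀ f f', f ∈ S → f' ∈ S → sz f = sz e → f * f' ≠ 0 → f' * f = f := by
    intro f f' hf hf' hsz hne
    have hc := envelope_comm hA hf.1 hf'.1
    have hS : f * f' ∈ S := ⟨Subring.mul_mem _ hf.1 hf'.1, by
      rw [mul_assoc, ← mul_assoc f' f, ← hc, mul_assoc, hf'.2.1, ← mul_assoc, hf.2.1], hne⟩
    have hsub : Set.range ((f * f' : AddMonoid.End V) : V → V) ⊆ Set.range (f : V → V) := by
      rintro _ ⟨x, rfl⟩; exact ⟨f' x, rfl⟩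
    have heq : Set.range ((f * f' : AddMonoid.End V) : V → V) = Set.range (f : V → V) := by
      refine Set.eq_of_subset_of_ncard_le hsub ?_ (Set.toFinite _)
      rw [← Nat.card_coe_set_eq, ← Nat.card_coe_set_eq]
      exact hsz.trans_le (hmin _ hS)
    ext x
    obtain ⟨y, hy⟩ := heq.symm.subset ⟨x, rfl⟩
    show f' (f x) = f x
    rw [← hy]
    show f' ((f * f') y) = (f * f') y
    rw [hc]
    exact happ f' hf'.2.1 (f y)
  have horth : ∀ f f', f ∈ S → f' ∈ S → sz f = sz e → sz f' = sz e → f ≠ f' → f * f' = 0 := by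
    intro f f' hf hf' hs hs' hne
    by_contra h0
    have h1 := hrange f f' hf hf' hs h0
    have h2 := hrange f' f hf' hf hs' (by rwa [envelope_comm hA hf'.1 hf.1])
    exact hne (by rw [← h1, envelope_comm hA hf'.1 hf.1, h2])
  let ι := {f : AddMonoid.End V // ∃ g : G, cj g e = f}
  letI : Fintype ι := Fintype.ofFinite ι
  have hιS : ∀ i : ι, i.1 ∈ S ∧ sz i.1 = sz e := fun i => by
    obtain ⟨g, hg⟩ := i.2
    rw [← hg]
    exact ⟨hcjS g, hszcj g⟩
  letI act : MulAction G ι :=
    { smul := fun h i => ⟨cj h i.1, by obtain ⟨g, hg⟩ := i.2; exact ⟨h * g, by rw [cj_mul, hg]⟩⟩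
      one_smul := fun i => Subtype.ext (cj_one i.1)
      mul_smul := fun g h i => Subtype.ext (cj_mul g h i.1) }
  have ho : ∀ i j : ι, i ≠ j → i.1 * j.1 = 0 := fun i j h =>
    horth _ _ (hιS i).1 (hιS j).1 (hιS i).2 (hιS j).2 fun h' => h (Subtype.ext h')
  have hequiv : ∀ (g : G) (i : ι) (x : V), g • i.1 x = (g • i).1 (g • x) := fun g i x => by
    show g • i.1 x = cj g i.1 (g • x)
    rw [cj_apply, inv_smul_smul]
  let s : AddMonoid.End V := ∑ i : ι, i.1
  have hsapp : ∀ x, s x = ∑ i : ι, i.1 x := fun x =>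
    map_sum (AddMonoidHom.eval x) (fun i : ι => i.1) Finset.univ
  have hproj : ∀ (i : ι) x, i.1 (s x) = i.1 x := fun i x => by
    rw [hsapp, map_sum, Finset.sum_eq_single i]
    · exact happ _ (hιS i).1.2.1 x
    · intro j _ hj
      exact congrArg (fun F : AddMonoid.End V => F x) (ho i j hj.symm)
    · simp
  have hstop : ∀ x, s x = x := by
    let U : AddSubgroup V := (s : V →+ V).range
    have hU : ∀ g : G, ∀ v ∈ U, g • v ∈ U := by
      rintro g _ ⟨x, rfl⟩
      refine ⟨g • x, ?_⟩
      show s (g • x) = g • s x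
      rw [hsapp, hsapp, Finset.smul_sum]
      exact (Fintype.sum_equiv (MulAction.toPerm g) _ _ fun i => hequiv g i x).symm
    rcases hirr U hU with h | h
    · exfalso
      apply he0
      ext x
      have hx : s x ∈ U := ⟨x, rfl⟩
      rw [h, AddSubgroup.mem_bot] at hx
      have := hproj ⟨e, 1, cj_one e⟩ x
      rw [hx, map_zero] at this
      exact this.symm
    · intro x
      have hx : x ∈ U := by rw [h]; exact AddSubgroup.mem_top x
      obtain ⟨y, rfl⟩ := hx
      show s (s y) = s y
      rw [hsapp (s y), hsapp y]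
      exact Finset.sum_congr rfl fun i _ => by rw [← hsapp, hproj]
  refine ⟨⟨ι, inferInstance, act, ?_, ?_, fun i => i.1, ?_, ?_, ?_, ?_, hequiv⟩⟩
  · intro i j
    obtain ⟨g, hg⟩ := i.2
    obtain ⟨h, hh⟩ := j.2
    exact ⟨h * g⁻¹, Subtype.ext (show cj (h * g⁻¹) i.1 = j.1 by
      rw [← hg, ← cj_mul, inv_mul_cancel_right, hh])⟩
  · by_contra hno
    push Not at hno
    let i₀ : ι := ⟨e, 1, cj_one e⟩
    have he1 : e = 1 := by
      ext x
      show e x = x
      conv_rhs => rw [← hstop x, hsapp]
      rw [Finset.sum_eq_single i₀]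
      · intro j _ hj; exact absurd (hno j i₀) hj
      · simp
    -- then every idempotent is trivial
    have hsurj : Set.range (e₁ : V → V) = Set.univ := by
      refine Set.eq_of_subset_of_ncard_le (Set.subset_univ _) ?_ (Set.toFinite _)
      rw [← Nat.card_coe_set_eq, ← Nat.card_coe_set_eq]
      refine le_trans ?_ (hmin _ ⟨he₁K, he₁i, he₁0⟩)
      show _ ≤ Nat.card (Set.range (e : V → V))
      rw [he1]
      exact le_of_eq (Nat.card_congr (Equiv.setCongr Set.range_id.symm))
    apply he₁1
    ext x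
    obtain ⟨y, rfl⟩ := hsurj.symm.subset (Set.mem_univ x)
    exact happ e₁ he₁i y
  · intro i j x h
    exact congrArg (fun F : AddMonoid.End V => F x) (ho i j h)
  · intro i x
    exact happ _ (hιS i).1.2.1 x
  · intro x y h
    rw [← hstop x, ← hstop y, hsapp, hsapp]
    exact Finset.sum_congr rfl fun i _ => h i
  · intro i
    by_contra hno
    push Not at hno
    exact (hιS i).1.2.2 (AddMonoidHom.ext hno)

end Cfsg.Agent.OP71
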