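import Cfsg.Agent.Lib.OddPair71.Alg

/-!
# Bounds for fixed spaces
-/

set_option autoImplicit false
set_option linter.unusedSectionVars false

open scoped commutatorElement

namespace Cfsg.Agent.OP71

variable {G V : Type} [Group G] [AddCommGroup V] [Finite V] [DistribMulAction G V]

/-- the fixed points of an element -/
def fixSub (g : G) : AddSubgroup V where
  carrier := {v | g • v = v}
  add_mem' := fun ha hb => by
    show g • (_ + _) = _
    rw [smul_add, ha, hb]
  zero_mem' := smul_zero g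
  neg_mem' := fun ha => by
    show g • (-_) = _
    rw [smul_neg, ha]

theorem mem_fixSub {g : G} {v : V} : v ∈ fixSub (V := V) g ↔ g • v = v := Iff.rfl

/-- number of fixed vectors -/
noncomputable def fx (V : Type) [AddCommGroup V] [DistribMulAction G V] (g : G) : ℕ :=
  Nat.card (fixSub (V := V) g)

theorem fx_sq_le (x y : G) : fx V x ^ 2 ≤ Nat.card V * fx V ⁅y, x⁆ := by
  let F := fixSub (V := V) x
  let φ : F × F →+ V :=
    { toFun := fun p => p.1.1 - y • p.2.1
      map_zero' := by simp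
      map_add' := fun p q => by
        simp only [Prod.fst_add, Prod.snd_add, AddSubgroup.coe_add, smul_add]
        abel }
  have hc : fx V x ^ 2 = Nat.card φ.ker * Nat.card φ.range := by
    rw [sq, ← AddSubgroup.index_ker, AddSubgroup.card_mul_index, Nat.card_prod]
    rfl
  rw [hc, mul_comm (Nat.card V)]
  refine Nat.mul_le_mul ?_ (Nat.card_le_card_of_injective _ Subtype.val_injective)
  refine Nat.card_le_card_of_injective (fun p => ⟨p.1.1.1, ?_⟩) ?_
  · have h : p.1.1.1 - y • p.1.2.1 = 0 := p.2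
    have ha : x • p.1.1.1 = p.1.1.1 := p.1.1.2
    have hb : x • p.1.2.1 = p.1.2.1 := p.1.2.2
    rw [sub_eq_zero] at h
    rw [mem_fixSub, commutatorElement_def]
    have hx : x⁻¹ • p.1.1.1 = p.1.1.1 := by rw [inv_smul_eq_iff, ha]
    rw [mul_smul, mul_smul, mul_smul, hx, h, inv_smul_smul, hb]
  · rintro ⟨⟨a, b⟩, hp⟩ ⟨⟨a', b'⟩, hp'⟩ h
    have h1 : a.1 = a'.1 := by have := congrArg Subtype.val h; exact this
    have e : a.1 - y • b.1 = 0 := hp
    have e' : a'.1 - y • b'.1 = 0 := hp'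
    rw [sub_eq_zero] at e e'
    have h2 : b.1 = b'.1 := MulAction.injective y (show y • b.1 = y • b'.1 by rw [← e, ← e', h1])
    exact Subtype.ext (Prod.ext (Subtype.ext h1) (Subtype.ext h2))

theorem fx_mul_le {g h : G} (hd : ∀ v : V, g • v = v → h • v = v → v = 0) :
    fx V g * fx V h ≤ Nat.card V := by
  rw [fx, fx, ← Nat.card_prod]
  refine Nat.card_le_card_of_injective (fun p => p.1.1 - p.2.1) ?_
  rintro ⟨⟨a, ha⟩, ⟨b, hb⟩⟩ ⟨⟨a', ha'⟩, ⟨b', hb'⟩⟩ he
  simp only at he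
  have h1 : a - a' = b - b' := by
    rw [sub_eq_sub_iff_add_eq_add] at he ⊢
    rw [he, add_comm]
  have h2 := hd (a - a') ((fixSub g).sub_mem ha ha') (h1 ▸ (fixSub h).sub_mem hb hb')
  rw [h2] at h1
  exact Prod.ext (Subtype.ext (sub_eq_zero.1 h2)) (Subtype.ext (sub_eq_zero.1 h1.symm))

variable {K : Type} [Field K] [Module K V]

/-- the scalar case: three eigenspaces -/
theorem fx_cube_le_of_scalar (z y : G) (ζ : K)
    (hz : ∀ (c : K) (v : V), z • c • v = c • z • v)
    (hy : ∀ (c : K) (v : V), y • c • v = c • y • v)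
    (hzy : ∀ v : V, z • y • v = ζ • y • z • v) (h1 : ζ ≠ 1) (h2 : ζ * ζ ≠ 1) (h0 : ζ ≠ 0) :
    fx V z ^ 3 ≤ Nat.card V := by
  have hne : ζ ≠ ζ * ζ := fun h => h1 (mul_left_cancel₀ h0 (by rw [mul_one]; exact h.symm))
  rw [show fx V z ^ 3 = Nat.card (fixSub (V := V) z × fixSub (V := V) z × fixSub (V := V) z) by
      rw [Nat.card_prod, Nat.card_prod, fx]; ring]
  refine Nat.card_le_card_of_injective
    (fun p => p.1.1 + y • p.2.1.1 + y • y • p.2.2.1) ?_
  rintro ⟨⟨a, ha⟩, ⟨b, hb⟩, ⟨c, hc⟩⟩ ⟨⟨a', ha'⟩, ⟨b', hb'⟩, ⟨c', hc'⟩⟩ he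
  simp only at he
  have hA : z • (a - a') = a - a' := (fixSub z).sub_mem ha ha'
  have hB₀ : z • (b - b') = b - b' := (fixSub z).sub_mem hb hb'
  have hC₀ : z • (c - c') = c - c' := (fixSub z).sub_mem hc hc'
  have hB : z • (y • (b - b')) = ζ • (y • (b - b')) := by rw [hzy, hB₀]
  have hC : z • (y • y • (c - c')) = (ζ * ζ) • (y • y • (c - c')) := by
    rw [hzy, hzy, hC₀, hy, smul_smul]
  have e0 : (a - a') + y • (b - b') + y • y • (c - c') = 0 := by
    rw [← sub_eq_zero.2 he, smul_sub y b b', smul_sub y c c', smul_sub]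
    abel
  generalize y • (b - b') = B at hB e0
  generalize hCC : y • y • (c - c') = Cc at hC e0
  generalize hAA : a - a' = Aa at hA e0
  have e1 : Aa + ζ • B + (ζ * ζ) • Cc = 0 := by
    rw [← hB, ← hC, ← hA, ← smul_add, ← smul_add, e0, smul_zero]
  have e2 : Aa + (ζ * ζ) • B + ((ζ * ζ) * (ζ * ζ)) • Cc = 0 := by
    have := congrArg (z • ·) e1
    simp only [smul_add, smul_zero, hz, hA, hB, hC, smul_smul] at this
    exact this
  have e0' : Aa + (1 : K) • B + ((1 : K) * 1) • Cc = 0 := by simpa using e0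
  obtain ⟨hA0, -, hC0⟩ := vand (Ne.symm h1) (Ne.symm h2) hne e0' e1 e2
  rw [← hAA] at hA0
  rw [← hCC] at hC0
  have hcc : c - c' = 0 := by
    have := congrArg (y⁻¹ • y⁻¹ • ·) hC0
    simpa using this
  rw [sub_eq_zero] at hA0 hcc
  subst hA0 hcc
  have hbb : b = b' := by
    have := he
    simp only [add_left_inj, add_right_inj] at this
    exact MulAction.injective y this
  subst hbb
  rfl

/-- the semilinear case -/
theorem fx_cube_le_of_semilinear (g : G) (l l₁ l₂ : K)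
    (hg : ∀ v : V, g • l • v = l₁ • g • v) (hg₁ : ∀ v : V, g • l₁ • v = l₂ • g • v)
    (h1 : l ≠ l₁) (h2 : l ≠ l₂) (h3 : l₁ ≠ l₂) :
    fx V g ^ 3 ≤ Nat.card V := by
  rw [show fx V g ^ 3 = Nat.card (fixSub (V := V) g × fixSub (V := V) g × fixSub (V := V) g) by
      rw [Nat.card_prod, Nat.card_prod, fx]; ring]
  refine Nat.card_le_card_of_injective
    (fun p => p.1.1 + l • p.2.1.1 + (l * l) • p.2.2.1) ?_
  rintro ⟨⟨a, ha⟩, ⟨b, hb⟩, ⟨c, hc⟩⟩ ⟨⟨a', ha'⟩, ⟨b', hb'⟩, ⟨c', hc'⟩⟩ he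
  simp only at he
  have hA : g • (a - a') = a - a' := (fixSub g).sub_mem ha ha'
  have hB : g • (b - b') = b - b' := (fixSub g).sub_mem hb hb'
  have hC : g • (c - c') = c - c' := (fixSub g).sub_mem hc hc'
  have e0 : (a - a') + l • (b - b') + (l * l) • (c - c') = 0 := by
    rw [← sub_eq_zero.2 he, smul_sub l b b', smul_sub (l * l) c c']
    abel
  generalize hAA : a - a' = Aa at hA e0
  generalize hBB : b - b' = B at hB e0
  generalize hCC : c - c' = Cc at hC e0
  have e1 : Aa + l₁ • B + (l₁ * l₁) • Cc = 0 := by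
    have := congrArg (g • ·) e0
    simp only [mul_smul, smul_add, smul_zero, hg, hA, hB, hC] at this
    rw [mul_smul]
    exact this
  have e2 : Aa + l₂ • B + (l₂ * l₂) • Cc = 0 := by
    have := congrArg (g • ·) e1
    simp only [mul_smul, smul_add, smul_zero, hg₁, hA, hB, hC] at this
    rw [mul_smul]
    exact this
  obtain ⟨r1, r2, r3⟩ := vand h1 h2 h3 e0 e1 e2
  rw [← hAA, sub_eq_zero] at r1
  rw [← hBB, sub_eq_zero] at r2
  rw [← hCC, sub_eq_zero] at r3
  subst r1 r2 r3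
  rfl

end Cfsg.Agent.OP71
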