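import Cfsg.Agent.Lib.OddPair71.Basic
import Cfsg.Agent.S0205

/-!
# Regular subsets for odd-order permutation groups
-/

set_option autoImplicit false
set_option linter.unusedSectionVars false
set_option linter.style.haveILetI false

namespace Cfsg.Agent.OP71

theorem cr_of_irr {G V : Type} [Group G] [AddCommGroup V] [DistribMulAction G V]
    (h : ∀ U : AddSubgroup V, (∀ g : G, ∀ v ∈ U, g • v ∈ U) → U = ⊥ ∨ U = ⊤) : CR G V := by
  intro U hU
  rcases h U hU with rfl | rfl
  · exact ⟨⊤, fun _ _ _ => AddSubgroup.mem_top _, bot_inf_eq _, bot_sup_eq _⟩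
  · refine ⟨⊥, fun g w hw => ?_, inf_bot_eq _, sup_bot_eq _⟩
    rw [AddSubgroup.mem_bot] at hw ⊢
    rw [hw, smul_zero]

theorem odd_dvd_of_dvd_two_pow_mul {m k t : ℕ} (hm : Odd m) (h : m ∣ 2 ^ k * t) : m ∣ t :=
  Nat.Coprime.dvd_of_dvd_mul_left
    (Nat.Coprime.pow_right k (Nat.coprime_two_right.2 hm)) h

theorem three_le_of_odd {m : ℕ} (hm : Odd m) (h1 : m ≠ 1) : 3 ≤ m := by
  obtain ⟨k, rfl⟩ := hm; omega

theorem cube_le_two_pow : ∀ n, 49 ≤ n → n ^ 3 ≤ 2 ^ (n - 5 * n / 9) := by
  intro n
  induction n using Nat.strong_induction_on with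
  | _ n ih =>
    intro hn
    by_cases hlt : n < 58
    · interval_cases n <;> norm_num
    · obtain ⟨m, rfl⟩ : ∃ m, n = m + 9 := ⟨n - 9, by omega⟩
      have h1 := ih m (by omega) (by omega)
      rw [show m + 9 - 5 * (m + 9) / 9 = (m - 5 * m / 9) + 4 by omega, pow_add]
      have h2 : (m + 9) ^ 3 ≤ (2 * m) ^ 3 := Nat.pow_le_pow_left (by omega) 3
      rw [mul_pow] at h2
      calc (m + 9) ^ 3 ≤ 2 ^ 3 * m ^ 3 := h2
        _ ≤ 2 ^ (m - 5 * m / 9) * 2 ^ 4 := by
          rw [mul_comm]; exact Nat.mul_le_mul h1 (by norm_num)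

/-- fixed subsets of a permutation are few -/
theorem card_fixed_subsets {G Ω : Type} [Group G] [Finite G] [Finite Ω] [MulAction G Ω]
    (hodd : Odd (Nat.card G)) (x : G) :
    ∃ c : ℕ, {S : Set Ω | ∀ y, x • y ∈ S ↔ y ∈ S}.ncard ≤ 2 ^ c ∧
      3 * c ≤ Nat.card Ω + 2 * {y : Ω | x • y = y}.ncard := by
  classical
  let P := Subgroup.zpowers x
  let Q := MulAction.orbitRel.Quotient P Ω
  haveI : Fintype Q := Fintype.ofFinite Q
  haveI : Fintype Ω := Fintype.ofFinite Ω
  refine ⟨Nat.card Q, ?_, ?_⟩
  · rw [← Nat.card_coe_set_eq]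
    have h2 : Nat.card (Set Q) = 2 ^ Nat.card Q := by
      simp [Nat.card_eq_fintype_card]
    rw [← h2]
    refine Nat.card_le_card_of_injective
      (fun S => (Quotient.mk'' '' S.1 : Set Q)) ?_
    have hinv : ∀ S : Set Ω, (∀ y, x • y ∈ S ↔ y ∈ S) → ∀ a b : Ω,
        (Quotient.mk'' a : Q) = Quotient.mk'' b → a ∈ S → b ∈ S := by
      intro S hS a b hab ha
      have hmem : a ∈ MulAction.orbit P b := Quotient.eq''.1 hab
      obtain ⟨⟨p, hp⟩, hpb⟩ := hmem
      let T : Subgroup G :=
        { carrier := {g | ∀ y, g • y ∈ S ↔ y ∈ S}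
          mul_mem' := fun {g h} hg hh y => by rw [mul_smul, hg, hh]
          one_mem' := fun y => by rw [one_smul]
          inv_mem' := fun {g} hg y => by rw [← hg (g⁻¹ • y), smul_inv_smul] }
      have hpT : p ∈ T := (Subgroup.zpowers_le.2 (show x ∈ T from hS)) hp
      rw [← hpT b]
      exact (show p • b = a from hpb) ▸ ha
    rintro ⟨S, hS⟩ ⟨S', hS'⟩ h
    apply Subtype.ext
    simp only at h
    ext a
    constructor
    · intro ha
      obtain ⟨b, hb, hab⟩ := h.subset ⟨a, ha, rfl⟩
      exact hinv S' hS' b a hab hb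
    · intro ha
      obtain ⟨b, hb, hab⟩ := h.symm.subset ⟨a, ha, rfl⟩
      exact hinv S hS b a hab hb
  · have hn : Nat.card Ω = ∑ q : Q, Nat.card (MulAction.orbit P q.out) := by
      rw [← Nat.card_sigma]
      exact Nat.card_congr (MulAction.selfEquivSigmaOrbits P Ω)
    have hsz : ∀ q : Q, 3 ≤ Nat.card (MulAction.orbit P q.out) + 2 * (if x • q.out = q.out then 1 else 0) := by
      intro q
      have hne : 1 ≤ Nat.card (MulAction.orbit P q.out) :=
        Nat.card_pos_iff.2 ⟨⟨⟨q.out, MulAction.mem_orbit_self _⟩⟩, inferInstance⟩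
      split_ifs with h
      · omega
      · have ho : Odd (Nat.card (MulAction.orbit P q.out)) := by
          refine hodd.of_dvd_nat ?_
          refine dvd_trans ?_ (Subgroup.card_subgroup_dvd_card P)
          rw [Nat.card_coe_set_eq, ← MulAction.index_stabilizer]
          exact Subgroup.index_dvd_card _
        have h1 : Nat.card (MulAction.orbit P q.out) ≠ 1 := fun h1 => h (by
          obtain ⟨hsub, -⟩ := Nat.card_eq_one_iff_unique.1 h1
          exact congrArg Subtype.val (hsub.elim
            (⟨x • q.out, ⟨⟨x, Subgroup.mem_zpowers x⟩, rfl⟩⟩ : MulAction.orbit P q.out)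
            ⟨q.out, MulAction.mem_orbit_self _⟩))
        have := three_le_of_odd ho h1
        omega
    have hsum := Finset.sum_le_sum (s := (Finset.univ : Finset Q)) (fun q _ => hsz q)
    rw [Finset.sum_const, Finset.card_univ, smul_eq_mul, Finset.sum_add_distrib, ← hn,
      ← Finset.mul_sum, ← Nat.card_eq_fintype_card] at hsum
    have hfix : (∑ q : Q, if x • q.out = q.out then 1 else 0) ≤ {y : Ω | x • y = y}.ncard := by
      rw [← Finset.sum_filter, Finset.sum_const, smul_eq_mul, mul_one, Set.ncard_eq_toFinset_card']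
      refine Finset.card_le_card_of_injOn Quotient.out ?_ (fun a _ b _ h => Quotient.out_injective h)
      intro q hq
      simp at hq ⊢
      exact hq
    omega

/-- the primitive case -/
theorem gluck_primitive {n : ℕ} (hM : MainUpTo n) (G Ω : Type) [Group G] [Finite G] [Finite Ω]
    [MulAction G Ω] [FaithfulSMul G Ω] (hodd : Odd (Nat.card G)) (hle : Nat.card Ω ≤ n)
    (α β : Ω) (hαβ : α ≠ β) (htrans : ∀ y : Ω, ∃ g : G, g • α = y)
    (hmax : ∀ K : Subgroup G, MulAction.stabilizer G α ≤ K →
      K = MulAction.stabilizer G α ∨ K = ⊤) :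
    ∃ S : Set Ω, ∀ g : G, (∀ x, g • x ∈ S ↔ x ∈ S) → ∀ x : Ω, g • x = x := by
  classical
  haveI : Group.IsSolvable G := Cfsg.Agent.S0205.result hodd
  let H := MulAction.stabilizer G α
  have hone : ∀ g : G, (∀ y : Ω, g • y = y) → g = 1 := fun g h =>
    FaithfulSMul.eq_of_smul_eq_smul fun y : Ω => by rw [h, one_smul]
  haveI : Nontrivial G := by
    obtain ⟨g, hg⟩ := htrans β
    exact ⟨⟨g, 1, fun h => hαβ (by rw [← hg, h, one_smul])⟩⟩
  -- abelian normal subgroup
  obtain ⟨N, hNn, hNab, hNne⟩ : ∃ N : Subgroup G, N.Normal ∧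
      (∀ x ∈ N, ∀ y ∈ N, x * y = y * x) ∧ N ≠ ⊥ := by
    obtain ⟨m, hm⟩ := Group.IsSolvable.solvable (G := G)
    have hex : ∃ k, derivedSeries G k ≠ ⊥ ∧ derivedSeries G (k + 1) = ⊥ := by
      by_contra hno'
      push Not at hno'
      have : ∀ k, derivedSeries G k ≠ ⊥ := fun k => by
        induction k with
        | zero => rw [derivedSeries_zero]; exact top_ne_bot
        | succ k ih => exact hno' k ih
      exact this m hm
    obtain ⟨k, hk1, hk2⟩ := hex
    refine ⟨derivedSeries G k, derivedSeries_normal G k, fun x hx y hy => ?_, hk1⟩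
    rw [derivedSeries_succ] at hk2
    have := Subgroup.commutator_mem_commutator hx hy
    rw [hk2, Subgroup.mem_bot] at this
    exact commutatorElement_eq_one_iff_mul_comm.1 this
  -- covering by an abelian normal subgroup
  have hcover : ∀ M : Subgroup G, M.Normal → M ≠ ⊥ → ∀ y : Ω, ∃ m ∈ M, m • α = y := by
    intro M hMn hMne
    have hnot : ¬ M ≤ H := fun hle' => hMne (eq_bot_iff.2 fun m hm => by
      rw [Subgroup.mem_bot]
      apply hone
      intro y
      obtain ⟨g, rfl⟩ := htrans y
      have h1 : g⁻¹ * m * g ∈ H := hle' (Subgroup.Normal.conj_mem' hMn m hm g)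
      have h2 : (g⁻¹ * m * g) • α = α := h1
      calc m • g • α = g • ((g⁻¹ * m * g) • α) := by rw [← mul_smul, ← mul_smul]; group
        _ = g • α := by rw [h2])
    rcases hmax (M ⊔ H) le_sup_right with h | h
    · exact absurd (le_sup_left.trans h.le) hnot
    intro y
    obtain ⟨g, rfl⟩ := htrans y
    have hg : g ∈ M ⊔ H := h ▸ Subgroup.mem_top g
    haveI := hMn
    obtain ⟨m, hm, h', hh, rfl⟩ := Subgroup.mem_sup_of_normal_left.1 hg
    exact ⟨m, hm, by rw [mul_smul, show h' • α = α from hh]⟩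
  have hreg : ∀ m ∈ N, m • α = α → m = 1 := fun m hm hα => hone m fun y => by
    obtain ⟨l, hl, rfl⟩ := hcover N hNn hNne y
    rw [← mul_smul, hNab m hm l hl, mul_smul, hα]
  have hinj : ∀ a ∈ N, ∀ b ∈ N, a • α = b • α → a = b := fun a ha b hb h =>
    (inv_mul_eq_one.1 (hreg _ (N.mul_mem (N.inv_mem hb) ha)
      (by rw [mul_smul, h, inv_smul_smul]))).symm
  let eN : N ≃ Ω := Equiv.ofBijective (fun m : N => (m : G) • α)
    ⟨fun a b h => Subtype.ext (hinj _ a.2 _ b.2 h), fun y => by
      obtain ⟨m, hm, h⟩ := hcover N hNn hNne y; exact ⟨⟨m, hm⟩, h⟩⟩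
  have hcardN : Nat.card N = Nat.card Ω := Nat.card_congr eN
  have hcardG : Nat.card G = Nat.card Ω * Nat.card H := by
    rw [← Subgroup.card_mul_index H, MulAction.index_stabilizer, mul_comm]
    congr 1
    rw [← Set.ncard_univ]
    congr 1
    exact Set.eq_univ_of_forall htrans
  -- conjugation action
  haveI := hNn
  letI : CommGroup N := { (inferInstance : Group N) with
    mul_comm := fun a b => Subtype.ext (hNab _ a.2 _ b.2) }
  letI : DistribMulAction H (Additive N) :=
    { smul := fun h w => Additive.ofMul (MulAut.conjNormal (h : G) w.toMul)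
      one_smul := fun w => by
        show Additive.ofMul (MulAut.conjNormal ((1 : H) : G) w.toMul) = w
        simp
      mul_smul := fun a b w => by
        show Additive.ofMul (MulAut.conjNormal ((a * b : H) : G) w.toMul) =
          Additive.ofMul (MulAut.conjNormal (a : G) (MulAut.conjNormal (b : G) w.toMul))
        simp
      smul_zero := fun a => by
        show Additive.ofMul (MulAut.conjNormal (a : G) (1 : N)) = 0
        simp
      smul_add := fun a v w => by
        show Additive.ofMul (MulAut.conjNormal (a : G) (v.toMul * w.toMul)) =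
          Additive.ofMul (MulAut.conjNormal (a : G) v.toMul) +
            Additive.ofMul (MulAut.conjNormal (a : G) w.toMul)
        rw [map_mul]; rfl }
  have hsmul : ∀ (h : H) (w : Additive N),
      ((h • w).toMul : G) = (h : G) * (w.toMul : G) * (h : G)⁻¹ := fun h w => rfl
  haveI : FaithfulSMul H (Additive N) := ⟨fun {a b} hab => by
    apply Subtype.ext
    refine (inv_mul_eq_one.1 (hone ((b : G)⁻¹ * a) fun y => ?_)).symm
    obtain ⟨m, hm, rfl⟩ := hcover N hNn hNne y
    have h1 := congrArg (fun w : Additive N => (w.toMul : G)) (hab (Additive.ofMul ⟨m, hm⟩))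
    simp only [hsmul, toMul_ofMul] at h1
    have ha : (a : G) • α = α := a.2
    have hb : (b : G) • α = α := b.2
    calc ((b : G)⁻¹ * a) • m • α = (b : G)⁻¹ • ((a : G) * m * (a : G)⁻¹) • α := by
          rw [← mul_smul, ← mul_smul]
          conv_rhs => rw [show α = (a : G) • α from ha.symm, ← mul_smul]
          congr 1; group
      _ = m • α := by
          rw [h1, ← mul_smul]
          conv_lhs => rw [show α = (b : G) • α from hb.symm, ← mul_smul]
          congr 1; group⟩
  have hirr : ∀ U : AddSubgroup (Additive N),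
      (∀ g : H, ∀ v ∈ U, g • v ∈ U) → U = ⊥ ∨ U = ⊤ := by
    intro U hU
    let U' : Subgroup G :=
      { carrier := {g | ∃ hg : g ∈ N, Additive.ofMul (⟨g, hg⟩ : N) ∈ U}
        mul_mem' := fun {a b} ⟨ha, ha'⟩ ⟨hb, hb'⟩ => ⟨N.mul_mem ha hb, U.add_mem ha' hb'⟩
        one_mem' := ⟨N.one_mem, U.zero_mem⟩
        inv_mem' := fun {a} ⟨ha, ha'⟩ => ⟨N.inv_mem ha, U.neg_mem ha'⟩ }
    have hU'n : U'.Normal := by
      refine ⟨fun u hu g => ?_⟩
      obtain ⟨m, hm, hgm⟩ := hcover N hNn hNne (g • α)
      have hh : m⁻¹ * g ∈ H := by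
        show (m⁻¹ * g) • α = α
        rw [mul_smul, ← hgm, inv_smul_smul]
      obtain ⟨huN, huU⟩ := hu
      have h1 := hU ⟨m⁻¹ * g, hh⟩ _ huU
      have hc : (m⁻¹ * g) * u * (m⁻¹ * g)⁻¹ ∈ N := hNn.conj_mem u huN _
      have h2 : g * u * g⁻¹ = (m⁻¹ * g) * u * (m⁻¹ * g)⁻¹ := by
        calc g * u * g⁻¹ = m * ((m⁻¹ * g) * u * (m⁻¹ * g)⁻¹) * m⁻¹ := by group
          _ = _ := by rw [hNab m hm _ hc, mul_inv_cancel_right]
      rw [h2]
      exact ⟨hc, h1⟩
    by_cases hb : U' = ⊥
    · left
      rw [eq_bot_iff]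
      intro w hw
      have : (w.toMul : G) ∈ U' := ⟨w.toMul.2, hw⟩
      rw [hb, Subgroup.mem_bot] at this
      rw [AddSubgroup.mem_bot]
      exact congrArg Additive.ofMul (Subtype.ext this : w.toMul = 1)
    · right
      rw [eq_top_iff]
      intro w _
      obtain ⟨u, ⟨huN, huU⟩, hu⟩ := hcover U' hU'n hb ((w.toMul : G) • α)
      have := hinj u huN _ w.toMul.2 hu
      subst this
      exact huU
  have hoddH : Odd (Nat.card H) := hodd.of_dvd_nat (Subgroup.card_subgroup_dvd_card H)
  have hcardA : Nat.card (Additive N) = Nat.card Ω := hcardN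
  have hH2 : Nat.card H ≤ Nat.card Ω ^ 2 := hcardA ▸
    card_le_sq_of_reg inferInstance (hM H (Additive N) hoddH (cr_of_irr hirr) (hcardA ▸ hle))
  -- exponent
  have hnN : Odd (Nat.card Ω) := hcardN ▸ hodd.of_dvd_nat (Subgroup.card_subgroup_dvd_card N)
  have hn1 : Nat.card Ω ≠ 1 := fun h =>
    hαβ ((Nat.card_eq_one_iff_unique.1 h).1.elim α β)
  let r := (Nat.card Ω).minFac
  have hr : r.Prime := Nat.minFac_prime hn1
  haveI := Fact.mk hr
  have hexp : ∀ w : Additive N, r • w = 0 := by
    let U : AddSubgroup (Additive N) := (nsmulAddMonoidHom r).ker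
    rcases hirr U (fun g v hv => by
      show r • (g • v) = 0
      rw [smul_comm, show r • v = 0 from hv, smul_zero]) with h | h
    · exfalso
      obtain ⟨w, hw⟩ := exists_prime_addOrderOf_dvd_card' (G := Additive N) r
        (hcardA ▸ Nat.minFac_dvd _)
      have hwU : w ∈ U := by
        show r • w = 0
        rw [← hw]; exact addOrderOf_nsmul_eq_zero w
      rw [h, AddSubgroup.mem_bot] at hwU
      rw [hwU, addOrderOf_zero] at hw
      exact hr.ne_one hw.symm
    · intro w
      have hw : w ∈ U := h ▸ AddSubgroup.mem_top w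
      exact hw
  obtain ⟨d, hd⟩ := card_natPrime_pow_eq hr hexp
  rw [hcardA] at hd
  -- fixed points
  have hfix : ∀ g : G, g ≠ 1 → 3 * {y : Ω | g • y = y}.ncard ≤ Nat.card Ω ∧
      ({y : Ω | g • y = y}.ncard = 0 ∨ {y : Ω | g • y = y}.ncard ∣ Nat.card Ω) := by
    intro g hg
    rcases Set.eq_empty_or_nonempty {y : Ω | g • y = y} with he | ⟨y₀, hy₀⟩
    · rw [he, Set.ncard_empty]; exact ⟨by omega, Or.inl rfl⟩
    obtain ⟨l, hl⟩ := htrans y₀
    have hh : l⁻¹ * g * l ∈ H := by
      show (l⁻¹ * g * l) • α = α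
      rw [mul_smul, hl, mul_smul, show g • y₀ = y₀ from hy₀, ← hl, inv_smul_smul]
    set x := l⁻¹ * g * l with hx
    have hx1 : x ≠ 1 := fun h => hg (by
      calc g = l * x * l⁻¹ := by rw [hx]; group
        _ = 1 := by rw [h]; group)
    let F : AddSubgroup (Additive N) :=
      { carrier := {w | (⟨x, hh⟩ : H) • w = w}
        add_mem' := fun ha hb => by
          show (⟨x, hh⟩ : H) • (_ + _) = _
          rw [smul_add, ha, hb]
        zero_mem' := smul_zero _
        neg_mem' := fun ha => by
          show (⟨x, hh⟩ : H) • (-_) = _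
          rw [smul_neg, ha] }
    have e : {y : Ω | g • y = y}.ncard = Nat.card F := by
      rw [← Nat.card_coe_set_eq]
      symm
      apply Nat.card_congr
      refine Equiv.ofBijective (fun w => ⟨(l * (w.1.toMul : G)) • α, ?_⟩) ⟨?_, ?_⟩
      · have hw := congrArg (fun v : Additive N => (v.toMul : G)) w.2
        simp only [hsmul] at hw
        show g • (l * (w.1.toMul : G)) • α = _
        calc g • (l * (w.1.toMul : G)) • α = (l * (x * (w.1.toMul : G) * x⁻¹)) • x • α := by
              rw [← mul_smul, ← mul_smul, hx]; group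
          _ = _ := by rw [hw, show x • α = α from hh]
      · intro a b hab
        have h := congrArg Subtype.val hab
        simp only [mul_smul, smul_left_cancel_iff] at h
        exact Subtype.ext (congrArg Additive.ofMul
          (Subtype.ext (hinj _ a.1.toMul.2 _ b.1.toMul.2 h) : a.1.toMul = b.1.toMul))
      · rintro ⟨y, hy⟩
        obtain ⟨m, hm, hm'⟩ := hcover N hNn hNne (l⁻¹ • y)
        refine ⟨⟨Additive.ofMul ⟨m, hm⟩, ?_⟩, Subtype.ext ?_⟩
        · show (⟨x, hh⟩ : H) • Additive.ofMul (⟨m, hm⟩ : N) = Additive.ofMul ⟨m, hm⟩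
          refine congrArg Additive.ofMul (Subtype.ext
            (hinj (x * m * x⁻¹) (hNn.conj_mem m hm x) m hm ?_) :
            MulAut.conjNormal x (⟨m, hm⟩ : N) = ⟨m, hm⟩)
          conv_lhs => rw [show α = x • α from (hh : x • α = α).symm, ← mul_smul,
            inv_mul_cancel_right, mul_smul, hm', hx, ← mul_smul, mul_inv_cancel_right, mul_smul,
            show g • y = y from hy]
          rw [hm']
        · show (l * m) • α = y
          rw [mul_smul, hm', smul_inv_smul]
    have hdvd : Nat.card F ∣ Nat.card Ω := hcardA ▸ AddSubgroup.card_addSubgroup_dvd_card F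
    rw [e]
    refine ⟨?_, Or.inr hdvd⟩
    obtain ⟨q, hq⟩ := hdvd
    have hq1 : q ≠ 1 := by
      intro hq1
      rw [hq1, mul_one, ← hcardA] at hq
      apply hx1
      have htop : F = ⊤ := AddSubgroup.eq_top_of_card_eq F hq.symm
      have : (⟨x, hh⟩ : H) = 1 := FaithfulSMul.eq_of_smul_eq_smul fun w : Additive N => by
        rw [one_smul]
        exact (htop.symm ▸ AddSubgroup.mem_top w : w ∈ F)
      exact congrArg Subtype.val this
    have := three_le_of_odd (Odd.of_dvd_nat hnN ⟨Nat.card F, by rw [hq, mul_comm]⟩) hq1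
    rw [hq, mul_comm 3]
    exact Nat.mul_le_mul_left _ this
  rcases Nat.lt_or_ge d 2 with hd2 | hd2
  · -- prime degree
    have hp : (Nat.card Ω).Prime := by
      interval_cases d
      · exact absurd (hd.trans (pow_zero r)) hn1
      · rw [hd, pow_one]; exact hr
    refine ⟨{α, β}, fun g hg => ?_⟩
    have hsq : ∀ z ∈ ({α, β} : Set Ω), g ^ 2 • z = z := by
      have h1 := (hg α).2 (by simp)
      have h2 := (hg β).2 (by simp)
      simp only [Set.mem_insert_iff, Set.mem_singleton_iff] at h1 h2
      intro z hz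
      simp only [Set.mem_insert_iff, Set.mem_singleton_iff] at hz
      rw [sq, mul_smul]
      rcases hz with rfl | rfl
      · rcases h1 with h1 | h1
        · rw [h1, h1]
        · rcases h2 with h2 | h2
          · rw [h1, h2]
          · exact absurd (MulAction.injective g (h1.trans h2.symm)) hαβ
      · rcases h2 with h2 | h2
        · rcases h1 with h1 | h1
          · exact absurd (MulAction.injective g (h1.trans h2.symm)) hαβ
          · rw [h2, h1]
        · rw [h2, h2]
    intro y
    apply fix_of_sq_fix hodd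
    by_contra hy
    have hne : g ^ 2 ≠ 1 := fun h => hy (by rw [h, one_smul])
    obtain ⟨h3, hdiv⟩ := hfix _ hne
    have h2 : 2 ≤ {z : Ω | g ^ 2 • z = z}.ncard := by
      exact (Set.ncard_pair hαβ).symm.le.trans
        (Set.ncard_le_ncard (t := {z : Ω | g ^ 2 • z = z}) hsq (Set.toFinite _))
    rcases hdiv with h | h
    · omega
    · rcases hp.eq_one_or_self_of_dvd _ h with h | h <;> omega
  -- counting
  have hodd3 : 3 ≤ r := three_le_of_odd (hnN.of_dvd_nat (Nat.minFac_dvd _)) hr.ne_one
  have hno : ∀ R : Subgroup H, R.Characteristic → IsPGroup r R → R = ⊥ := by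
    intro R hR hRp
    haveI : R.Normal := Subgroup.normal_of_characteristic R
    rw [eq_bot_iff]
    intro x hx
    rw [Subgroup.mem_bot]
    exact FaithfulSMul.eq_of_smul_eq_smul fun w : Additive N => by
      rw [one_smul]
      exact normal_pgroup_trivial (cr_of_irr hirr) hr hexp R hRp x hx w
  haveI : Group.IsSolvable H := Cfsg.Agent.S0205.result hoddH
  have hgl := card_dvd_gl (H := H) hr hexp (hcardA.trans hd)
  have hbound : Nat.card G * 2 ^ (5 * Nat.card Ω / 9) ≤ 2 ^ Nat.card Ω := by
    by_cases hbig : 49 ≤ Nat.card Ω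
    · have h1 := cube_le_two_pow _ hbig
      have h2 : Nat.card G ≤ Nat.card Ω ^ 3 := by
        rw [hcardG, pow_succ' _ 2]; exact Nat.mul_le_mul_left _ hH2
      calc Nat.card G * 2 ^ (5 * Nat.card Ω / 9)
          ≤ 2 ^ (Nat.card Ω - 5 * Nat.card Ω / 9) * 2 ^ (5 * Nat.card Ω / 9) :=
            Nat.mul_le_mul_right _ (h2.trans h1)
        _ = 2 ^ Nat.card Ω := by rw [← pow_add, Nat.sub_add_cancel (by omega)]
    · have hr7 : r < 7 := by
        by_contra h
        have h49 : 7 ^ 2 ≤ r ^ d :=
          (Nat.pow_le_pow_left (by omega) 2).trans (Nat.pow_le_pow_right (by omega) hd2)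
        omega
      have hd4 : d < 4 := by
        by_contra h
        have h81 : 3 ^ 4 ≤ r ^ d :=
          (Nat.pow_le_pow_left hodd3 4).trans (Nat.pow_le_pow_right (by omega) (by omega))
        omega
      have hoddr : Odd r := hnN.of_dvd_nat (Nat.minFac_dvd _)
      rw [hcardG]
      rw [hd] at hbig
      rw [hd]
      generalize r = r' at *
      interval_cases r'
      · interval_cases d
        · -- nine
          have h3 : Nat.card H ∣ 3 ^ 1 * 1 :=
            odd_dvd_of_dvd_two_pow_mul (k := 4) hoddH (by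
              simpa [Fin.prod_univ_succ] using hgl)
          rcases card_le_of_no_char_pgroup hr (Or.inr rfl) (by norm_num) h3 hno with h | h
          · have : 0 < Nat.card H := Nat.card_pos
            omega
          · rw [h]; norm_num
        · -- twenty-seven
          have h3 : Nat.card H ∣ 3 ^ 3 * 13 :=
            odd_dvd_of_dvd_two_pow_mul (k := 5) hoddH (by
              simpa [Fin.prod_univ_succ] using hgl)
          have h4 : Nat.card H ≤ 117 := by
            rcases card_le_of_no_char_pgroup hr (Or.inl (by norm_num)) (by norm_num) h3 hno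
              with h | h
            · obtain ⟨q, hq⟩ := h3
              norm_num at hq
              have hq3 : 3 ≤ q := by
                by_contra hlt
                interval_cases q <;> omega
              nlinarith
            · omega
          calc 3 ^ 3 * Nat.card H * 2 ^ (5 * 3 ^ 3 / 9) ≤ 3 ^ 3 * 117 * 2 ^ (5 * 3 ^ 3 / 9) := by
                gcongr
            _ ≤ _ := by norm_num
      · exact absurd hoddr (by decide)
      · interval_cases d
        · -- twenty-five
          have h3 : Nat.card H ∣ 15 :=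
            odd_dvd_of_dvd_two_pow_mul (k := 5) hoddH (by
              simpa [Fin.prod_univ_succ] using hgl)
          have h4 := Nat.le_of_dvd (by norm_num) h3
          calc 5 ^ 2 * Nat.card H * 2 ^ (5 * 5 ^ 2 / 9) ≤ 5 ^ 2 * 15 * 2 ^ (5 * 5 ^ 2 / 9) := by
                gcongr
            _ ≤ _ := by norm_num
        · omega
      · exact absurd hoddr (by decide)
  by_contra hcon
  push Not at hcon
  haveI : Fintype G := Fintype.ofFinite G
  haveI : Fintype Ω := Fintype.ofFinite Ω
  let bad : G → Finset (Set Ω) := fun g =>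
    Finset.univ.filter fun S => ∀ y, g • y ∈ S ↔ y ∈ S
  have hcov : (Finset.univ : Finset (Set Ω)) ⊆ (Finset.univ.erase (1 : G)).biUnion bad := by
    intro S _
    obtain ⟨g, hg, y, hy⟩ := hcon S
    exact Finset.mem_biUnion.2 ⟨g,
      Finset.mem_erase.2 ⟨fun h => hy (by rw [h, one_smul]), Finset.mem_univ _⟩,
      Finset.mem_filter.2 ⟨Finset.mem_univ _, hg⟩⟩
  have hone' : ∀ g ∈ Finset.univ.erase (1 : G), (bad g).card ≤ 2 ^ (5 * Nat.card Ω / 9) := by
    intro g hg
    obtain ⟨c, hc1, hc2⟩ := card_fixed_subsets (Ω := Ω) hodd g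
    have h3 := (hfix g (Finset.mem_erase.1 hg).1).1
    refine le_trans (le_of_eq ?_) (hc1.trans (Nat.pow_le_pow_right (by omega) (by omega)))
    rw [← Set.ncard_coe_finset]
    congr 1
    ext S
    simp [bad]
  have h1 := (Finset.card_le_card hcov).trans Finset.card_biUnion_le
  have h2 : (Finset.univ.erase (1 : G)).sum (fun g => (bad g).card) ≤
      (Nat.card G - 1) * 2 ^ (5 * Nat.card Ω / 9) := by
    refine (Finset.sum_le_sum hone').trans (le_of_eq ?_)
    rw [Finset.sum_const, Finset.card_erase_of_mem (Finset.mem_univ _), Finset.card_univ,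
      smul_eq_mul, Nat.card_eq_fintype_card (α := G)]
  rw [Finset.card_univ, Fintype.card_set, ← Nat.card_eq_fintype_card] at h1
  have h4 : (Nat.card G - 1) * 2 ^ (5 * Nat.card Ω / 9) < Nat.card G * 2 ^ (5 * Nat.card Ω / 9) :=
    Nat.mul_lt_mul_of_pos_right (by have : 0 < Nat.card G := Nat.card_pos; omega) (by positivity)
  omega

/-- every odd-order permutation group has a regular subset -/
theorem gluck {n : ℕ} (hM : MainUpTo n) : GluckUpTo n := by
  suffices h : ∀ k ≤ n, GluckUpTo k from h n le_rfl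
  intro k
  induction k using Nat.strong_induction_on with
  | _ k ih =>
    intro hk G Ω _ _ _ _ hodd hcard
    classical
    by_cases h1 : Nat.card Ω ≤ 1
    · exact ⟨∅, fun g _ x => (Finite.card_le_one_iff_subsingleton.1 h1).elim _ _⟩
    haveI : Nontrivial Ω := Finite.one_lt_card_iff_nontrivial.1 (by omega)
    obtain ⟨α, β, hαβ⟩ := exists_pair_ne Ω
    by_cases htr : ∀ y : Ω, ∃ g : G, g • α = y
    swap
    · -- intransitive
      push Not at htr
      obtain ⟨z, hz⟩ := htr
      let O : SubMulAction G Ω :=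
        { carrier := MulAction.orbit G α
          smul_mem' := fun g x hx => MulAction.mem_orbit_of_mem_orbit g hx }
      let O' : SubMulAction G Ω :=
        { carrier := (MulAction.orbit G α)ᶜ
          smul_mem' := fun g x hx h => hx (by
            simpa using MulAction.mem_orbit_of_mem_orbit g⁻¹ h) }
      have hz' : z ∉ MulAction.orbit G α := fun ⟨g, hg⟩ => hz g hg
      have hO : Nat.card O < Nat.card Ω :=
        Finite.card_subtype_lt (x := z) hz'
      have hO' : Nat.card O' < Nat.card Ω :=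
        Finite.card_subtype_lt (x := α) (fun h => h (MulAction.mem_orbit_self α))
      obtain ⟨S₁, hS₁⟩ := ih (Nat.card O) (by omega) (by omega) G O hodd le_rfl
      obtain ⟨S₂, hS₂⟩ := ih (Nat.card O') (by omega) (by omega) G O' hodd le_rfl
      refine ⟨Subtype.val '' S₁ ∪ Subtype.val '' S₂, fun g hg x => ?_⟩
      have hsep₁ : ∀ y : O, (y : Ω) ∈ Subtype.val '' S₁ ∪ Subtype.val '' S₂ ↔ y ∈ S₁ := by
        intro y
        constructor
        · rintro (⟨w, hw, he⟩ | ⟨w, hw, he⟩)
          · rwa [← Subtype.ext he]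
          · exact absurd (he ▸ y.2 : (w : Ω) ∈ MulAction.orbit G α) w.2
        · exact fun h => Or.inl ⟨y, h, rfl⟩
      have hsep₂ : ∀ y : O', (y : Ω) ∈ Subtype.val '' S₁ ∪ Subtype.val '' S₂ ↔ y ∈ S₂ := by
        intro y
        constructor
        · rintro (⟨w, hw, he⟩ | ⟨w, hw, he⟩)
          · exact absurd (he ▸ w.2 : (y : Ω) ∈ MulAction.orbit G α) y.2
          · rwa [← Subtype.ext he]
        · exact fun h => Or.inr ⟨y, h, rfl⟩
      by_cases hx : x ∈ MulAction.orbit G α
      · exact congrArg Subtype.val (hS₁ g (fun y => by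
          rw [← hsep₁, ← hsep₁]; exact hg y.1) ⟨x, hx⟩)
      · exact congrArg Subtype.val (hS₂ g (fun y => by
          rw [← hsep₂, ← hsep₂]; exact hg y.1) ⟨x, hx⟩)
    by_cases hprim : ∀ K : Subgroup G, MulAction.stabilizer G α ≤ K →
        K = MulAction.stabilizer G α ∨ K = ⊤
    · -- primitive
      let G' := (MulAction.toPermHom G Ω).range
      haveI : FaithfulSMul G' Ω :=
        ⟨fun {a b} h => Subtype.ext (Equiv.ext h)⟩
      have hM' : ∀ y : Ω, ∃ g : G', g • α = y := fun y => by
        obtain ⟨g, hg⟩ := htr y; exact ⟨⟨_, g, rfl⟩, hg⟩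
      have hmax' : ∀ K : Subgroup G', MulAction.stabilizer G' α ≤ K →
          K = MulAction.stabilizer G' α ∨ K = ⊤ := by
        intro K hK
        let f := (MulAction.toPermHom G Ω).rangeRestrict
        have hf : Function.Surjective f := MonoidHom.rangeRestrict_surjective _
        have hc : (MulAction.stabilizer G' α).comap f = MulAction.stabilizer G α := by
          ext g; rfl
        rcases hprim (K.comap f) (hc ▸ Subgroup.comap_mono hK) with h | h
        · left
          rw [← Subgroup.map_comap_eq_self_of_surjective hf K, h, ← hc,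
            Subgroup.map_comap_eq_self_of_surjective hf]
        · right
          rw [← Subgroup.map_comap_eq_self_of_surjective hf K, h, Subgroup.map_top_of_surjective f hf]
      obtain ⟨S, hS⟩ := gluck_primitive hM G' Ω (odd_range hodd _) (by omega) α β hαβ hM' hmax'
      exact ⟨S, fun g hg x => hS ⟨_, g, rfl⟩ hg x⟩
    -- imprimitive
    push Not at hprim
    obtain ⟨K, hHK, hKne, hKtop⟩ := hprim
    let H := MulAction.stabilizer G α
    have hc : ∀ y : Ω, ∃ g : G, g • α = y := htr
    choose t ht using hc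
    let π : Ω → G ⧸ K := fun y => (t y : G ⧸ K)
    have hπ : ∀ (g : G), π (g • α) = (g : G ⧸ K) := fun g =>
      QuotientGroup.eq.2 (hHK (show ((t (g • α))⁻¹ * g) • α = α by
        rw [mul_smul, inv_smul_eq_iff, ht]))
    have hπe : ∀ (g : G) (y : Ω), π (g • y) = g • π y := fun g y => by
      have h := hπ (g * t y)
      rw [mul_smul, ht] at h
      rw [h]; rfl
    have hπK : ∀ (g : G) (y : Ω), π y = ((1 : G) : G ⧸ K) → (g ∈ K ↔ π (g • y) = ((1 : G) : G ⧸ K)) := by
      intro g y hy
      rw [hπe, hy]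
      show _ ↔ ((g * 1 : G) : G ⧸ K) = _
      rw [mul_one, QuotientGroup.eq, mul_one, inv_mem_iff]
    have hinv : ∀ c : G ⧸ K, c.out⁻¹ • c = ((1 : G) : G ⧸ K) := fun c => by
      nth_rewrite 2 [← QuotientGroup.out_eq' c]
      show ((c.out⁻¹ * c.out : G) : G ⧸ K) = _
      rw [inv_mul_cancel]
    let B : SubMulAction K Ω :=
      { carrier := {y | π y = ((1 : G) : G ⧸ K)}
        smul_mem' := fun k y hy => (hπK k y hy).1 k.2 }
    have hαB : α ∈ B := by
      show π α = _
      rw [← hπ 1, one_smul]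
    have hindex : K.index * Nat.card B = Nat.card Ω := by
      rw [Subgroup.index, ← Nat.card_prod]
      refine (Nat.card_congr (Equiv.ofBijective
        (fun y => (⟨π y, ⟨(π y).out⁻¹ • y, ?_⟩⟩ : (G ⧸ K) × B)) ⟨?_, ?_⟩)).symm
      · show π _ = _
        rw [hπe, hinv]
      · intro a b h
        simp only [Prod.mk.injEq, Subtype.mk.injEq] at h
        rw [h.1] at h
        exact MulAction.injective _ h.2
      · rintro ⟨c, b, hb⟩
        refine ⟨c.out • b, ?_⟩
        have hcb : π (c.out • b) = c := by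
          rw [hπe, show π b = _ from hb]
          show ((c.out * 1 : G) : G ⧸ K) = c
          rw [mul_one, QuotientGroup.out_eq']
        simp only [Prod.mk.injEq, Subtype.mk.injEq]
        exact ⟨hcb, by rw [hcb, inv_smul_smul]⟩
    have hidx1 : 1 < K.index := K.one_lt_index_of_ne_top hKtop
    have hB1 : 1 < Nat.card B := by
      obtain ⟨k₀, hk₀, hk₁⟩ := SetLike.exists_of_lt (lt_of_le_of_ne hHK (Ne.symm hKne))
      haveI : Nontrivial B := ⟨⟨⟨α, hαB⟩, (⟨k₀, hk₀⟩ : K) • ⟨α, hαB⟩,
        fun h => hk₁ (show k₀ • α = α from (congrArg Subtype.val h).symm)⟩⟩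
      exact Finite.one_lt_card
    have hidxlt : K.index < Nat.card Ω := by
      rw [← hindex]; exact lt_mul_of_one_lt_right (by omega) hB1
    have hBlt : Nat.card B < Nat.card Ω := by
      rw [← hindex]; exact lt_mul_of_one_lt_left (by omega) hidx1
    obtain ⟨S₀, hS₀⟩ := ih (Nat.card B) (by omega) (by omega) K B
      (hodd.of_dvd_nat (Subgroup.card_subgroup_dvd_card K)) le_rfl
    obtain ⟨T, hT⟩ := ih K.index (by omega) (by omega) G (G ⧸ K) hodd le_rfl
    have hloc : ∀ (c : G ⧸ K) (y : Ω), π y = c → (c.out⁻¹ • y) ∈ B := by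
      intro c y hy
      show π _ = _
      rw [hπe, hy, hinv]
    refine ⟨{y | (⟨(π y).out⁻¹ • y, hloc _ y rfl⟩ : B) ∈ S₀ ↔ π y ∈ T}, fun g hg x => ?_⟩
    have hblock : ∀ c : G ⧸ K, ∃ k : K, ((k : G) = (g • c).out⁻¹ * g * c.out) ∧
        ∀ b : B, ((k • b ∈ S₀ ↔ g • c ∈ T) ↔ (b ∈ S₀ ↔ c ∈ T)) := by
      intro c
      have hk : (g • c).out⁻¹ * g * c.out ∈ K := by
        rw [mul_assoc]
        apply QuotientGroup.eq.1
        show ((g • c).out : G ⧸ K) = g • ((c.out : G) : G ⧸ K)
        rw [QuotientGroup.out_eq', QuotientGroup.out_eq']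
      refine ⟨⟨_, hk⟩, rfl, fun b => ?_⟩
      have hp : π (c.out • (b : Ω)) = c := by
        rw [hπe, show π (b : Ω) = _ from b.2]
        show ((c.out * 1 : G) : G ⧸ K) = c
        rw [mul_one, QuotientGroup.out_eq']
      have hp2 : π (g • c.out • (b : Ω)) = g • c := by rw [hπe, hp]
      have h := hg (c.out • (b : Ω))
      simp only [Set.mem_ofPred_eq] at h
      have e1 : (⟨(π (c.out • (b : Ω))).out⁻¹ • c.out • (b : Ω), hloc _ _ rfl⟩ : B) = b :=
        Subtype.ext (by simp only [hp, inv_smul_smul])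
      have e2 : (⟨(π (g • c.out • (b : Ω))).out⁻¹ • g • c.out • (b : Ω), hloc _ _ rfl⟩ : B) =
          (⟨_, hk⟩ : K) • b := Subtype.ext (by
        show _ = ((g • c).out⁻¹ * g * c.out) • (b : Ω)
        simp only [hp2, mul_smul])
      rw [e1, e2, hp, hp2] at h
      exact h
    have hfixB : ∀ c, ∀ (k : K), ((k : G) = (g • c).out⁻¹ * g * c.out) → g • c = c →
        (∀ b : B, k • b ∈ S₀ ↔ b ∈ S₀) → ∀ y, π y = c → g • y = y := by
      intro c k hk hgc h y hy
      have h2 := congrArg Subtype.val (hS₀ k h ⟨_, hloc c y hy⟩)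
      have h3 : (k : G) • c.out⁻¹ • y = c.out⁻¹ • y := h2
      rw [hk, hgc, mul_smul, mul_smul, smul_inv_smul] at h3
      exact MulAction.injective _ h3
    have hTinv : ∀ c, g • c ∈ T ↔ c ∈ T := by
      intro c
      by_contra hne
      obtain ⟨k, -, hk⟩ := hblock c
      have hflip : ∀ b : B, k • b ∈ S₀ ↔ ¬ b ∈ S₀ := by
        intro b
        have := hk b
        tauto
      have hsq : ∀ b : B, k ^ 2 • b ∈ S₀ ↔ b ∈ S₀ := fun b => by
        rw [sq, mul_smul, hflip, hflip, not_not]
      have hb := fix_of_sq_fix (hodd.of_dvd_nat (Subgroup.card_subgroup_dvd_card K))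
        (hS₀ (k ^ 2) hsq ⟨α, hαB⟩)
      have := hflip ⟨α, hαB⟩
      rw [hb] at this
      tauto
    obtain ⟨k, hk1, hk⟩ := hblock (π x)
    exact hfixB (π x) k hk1 (hT g hTinv _) (fun b => by
      have := hk b
      have := hTinv (π x)
      tauto) x rfl

end Cfsg.Agent.OP71
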