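import Mathlib

/-!
# The arithmetic of the primitive count
-/

set_option autoImplicit false

namespace Cfsg.Agent.OP71

theorem small_dim_le : ∀ n, 3 ≤ n → n ≤ 4 ^ (n - (n + 2) / 3 - 1) := by
  intro n
  induction n using Nat.strong_induction_on with
  | _ n ih =>
    intro hn
    by_cases hlt : n < 6
    · interval_cases n <;> norm_num
    · obtain ⟨k, rfl⟩ : ∃ k, n = k + 3 := ⟨n - 3, by omega⟩
      have h1 := ih k (by omega) (by omega)
      rw [show k + 3 - (k + 3 + 2) / 3 - 1 = (k - (k + 2) / 3 - 1) + 2 by omega, pow_add]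
      nlinarith [Nat.one_le_pow (k - (k + 2) / 3 - 1) 4 (by norm_num)]

theorem large_dim_le : ∀ n, 19 ≤ n → 3 * n ^ 6 ≤ 4 ^ (2 * ((n + 2) / 3)) := by
  intro n
  induction n using Nat.strong_induction_on with
  | _ n ih =>
    intro hn
    by_cases hlt : n < 22
    · interval_cases n <;> norm_num
    · obtain ⟨k, rfl⟩ : ∃ k, n = k + 3 := ⟨n - 3, by omega⟩
      have h1 := ih k (by omega) (by omega)
      rw [show 2 * ((k + 3 + 2) / 3) = 2 * ((k + 2) / 3) + 2 by omega, pow_add]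
      have h2 : (5 * (k + 3)) ^ 6 ≤ (6 * k) ^ 6 := Nat.pow_le_pow_left (by omega) 6
      rw [mul_pow, mul_pow] at h2
      norm_num at h2 ⊢
      generalize (k + 3) ^ 6 = a at h2 ⊢
      generalize k ^ 6 = b at h1 h2
      omega

/-- the facts about the parameters used by the count -/
structure Params (q n e s : ℕ) : Prop where
  q4 : 4 ≤ q
  eodd : Odd e
  e3 : 3 ≤ e
  en : e ≤ n
  prime_lt : ∀ r : ℕ, r.Prime → r ∣ e → r < q
  s4 : s ≤ e ^ 4
  three : e = 3 → s = 1
  five : e = 5 → s ≤ 15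
  seven : e = 7 → s ≤ 63
  nine : e = 9 → s ≤ 16

theorem numeric {q n e s : ℕ} (h : Params q n e s) (hs : s ≠ 1) :
    3 * (e * e) * s ≤ q ^ (2 * ((n + 2) / 3)) := by
  obtain ⟨hq, heo, he3, hen, hpr, hs4, h3, h5, h7, h9⟩ := h
  by_cases hn : 19 ≤ n
  · calc 3 * (e * e) * s ≤ 3 * (n * n) * n ^ 4 :=
          Nat.mul_le_mul (Nat.mul_le_mul le_rfl (Nat.mul_le_mul hen hen))
            (hs4.trans (Nat.pow_le_pow_left hen 4))
      _ = 3 * n ^ 6 := by ring
      _ ≤ 4 ^ (2 * ((n + 2) / 3)) := large_dim_le n hn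
      _ ≤ _ := Nat.pow_le_pow_left hq _
  · refine le_trans ?_ (Nat.pow_le_pow_right (show 0 < q by omega)
      (show 2 * ((e + 2) / 3) ≤ 2 * ((n + 2) / 3) by omega))
    have key : ∀ B Q E : ℕ, s ≤ B → Q ≤ q → 3 * (e * e) * B ≤ Q ^ E → 3 * (e * e) * s ≤ q ^ E :=
      fun B Q E hB hQ hle =>
        (Nat.mul_le_mul le_rfl hB).trans (hle.trans (Nat.pow_le_pow_left hQ E))
    have he19 : e < 19 := by omega
    obtain ⟨k, rfl⟩ := heo
    have hk : k < 9 := by omega
    interval_cases k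
    · omega
    · exact absurd (h3 rfl) hs
    · exact key 15 6 _ (h5 rfl) (hpr 5 (by norm_num) (by norm_num)) (by norm_num)
    · exact key 63 8 _ (h7 rfl) (hpr 7 (by norm_num) (by norm_num)) (by norm_num)
    · exact key 16 4 _ (h9 rfl) hq (by norm_num)
    · exact key _ 12 _ hs4 (hpr 11 (by norm_num) (by norm_num)) (by norm_num)
    · exact key _ 14 _ hs4 (hpr 13 (by norm_num) (by norm_num)) (by norm_num)
    · exact key _ 6 _ hs4 (hpr 5 (by norm_num) (by norm_num)) (by norm_num)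
    · exact key _ 18 _ hs4 (hpr 17 (by norm_num) (by norm_num)) (by norm_num)

end Cfsg.Agent.OP71
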