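import Cfsg.Agent.Lib.OddPair71.Quot
import Cfsg.Agent.Lib.OddPair71.Gluck
import Cfsg.Agent.Lib.OddPair71.Field
import Cfsg.Agent.Lib.OddPair71.Numeric
import Cfsg.Agent.Lib.OddPair71.FixBound

/-!
# The primitive linear case
-/

set_option autoImplicit false
set_option linter.unusedSectionVars false
set_option linter.style.haveILetI false

open scoped commutatorElement

namespace Cfsg.Agent.OP71

theorem count_small {q n u a m : ℕ} (hq : 4 ≤ q) (hn : 3 ≤ n) (hu : u = (n + 2) / 3)
    (ha : a < q) (hm0 : 0 < m) (hmn : m ≤ n * n) :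
    (a * a * m + a * m) * q ^ (2 * u) < q ^ (2 * n) := by
  have h1 : n * n ≤ q ^ (2 * (n - u - 1)) := by
    have h := (small_dim_le n hn).trans (Nat.pow_le_pow_left hq (n - (n + 2) / 3 - 1))
    rw [← hu] at h
    rw [two_mul, pow_add]
    exact Nat.mul_le_mul h h
  have h2 : a * a + a < q * q := by nlinarith
  have h3 : (a * a * m + a * m) < q * q * q ^ (2 * (n - u - 1)) := by
    calc a * a * m + a * m = (a * a + a) * m := by ring
      _ < q * q * m := Nat.mul_lt_mul_of_pos_right h2 hm0
      _ ≤ _ := Nat.mul_le_mul_left _ (hmn.trans h1)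
  calc (a * a * m + a * m) * q ^ (2 * u) < q * q * q ^ (2 * (n - u - 1)) * q ^ (2 * u) :=
        Nat.mul_lt_mul_of_pos_right h3 (by positivity)
    _ = q ^ (2 * n) := by
        rw [← pow_two, ← pow_add, ← pow_add]
        congr 1
        omega

theorem count_large {q n u a m s : ℕ} (hq : 4 ≤ q) (hn : 5 ≤ n) (hu : u = (n + 2) / 3)
    (ha : a < q) (hm0 : 0 < m) (hs0 : 0 < s)
    (hnum : 3 * m * s ≤ q ^ (2 * u)) :
    (a * a * (m * s) + a * m) * q ^ (2 * u) + s * m * (q ^ (2 * (n - u)) + a * q ^ n)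
      < q ^ (2 * n) := by
  have h1 : (a * a * (m * s) + a * m) < q * q * (m * s) := by
    have : a * m ≤ a * (m * s) := Nat.mul_le_mul_left _ (Nat.le_mul_of_pos_right m hs0)
    have h2 : a * a + a < q * q := by nlinarith
    calc a * a * (m * s) + a * m ≤ (a * a + a) * (m * s) := by rw [Nat.add_mul]; omega
      _ < _ := Nat.mul_lt_mul_of_pos_right h2 (Nat.mul_pos hm0 hs0)
  have h2 : q * q * q ^ (2 * u) ≤ q ^ (2 * (n - u)) := by
    rw [← pow_two, ← pow_add]; exact Nat.pow_le_pow_right (by omega) (by omega)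
  have h3 : a * q ^ n ≤ q ^ (2 * (n - u)) := by
    calc a * q ^ n ≤ q * q ^ n := Nat.mul_le_mul_right _ ha.le
      _ = q ^ (n + 1) := by rw [pow_succ']
      _ ≤ _ := Nat.pow_le_pow_right (by omega) (by omega)
  calc (a * a * (m * s) + a * m) * q ^ (2 * u) + s * m * (q ^ (2 * (n - u)) + a * q ^ n)
      < q * q * (m * s) * q ^ (2 * u) + s * m * (q ^ (2 * (n - u)) + a * q ^ n) :=
        Nat.add_lt_add_right (Nat.mul_lt_mul_of_pos_right h1 (by positivity)) _
    _ ≤ (m * s) * q ^ (2 * (n - u)) + s * m * (q ^ (2 * (n - u)) + q ^ (2 * (n - u))) := by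
        refine Nat.add_le_add ?_ (Nat.mul_le_mul_left _ (Nat.add_le_add_left h3 _))
        calc q * q * (m * s) * q ^ (2 * u) = m * s * (q * q * q ^ (2 * u)) := by ring
          _ ≤ _ := Nat.mul_le_mul_left _ h2
    _ = 3 * m * s * q ^ (2 * (n - u)) := by ring
    _ ≤ q ^ (2 * u) * q ^ (2 * (n - u)) := Nat.mul_le_mul_right _ hnum
    _ = _ := by rw [← pow_add]; congr 1; omega

/-- independence of coset representatives as operators -/
theorem indep_of_eigen {K E ι : Type} [Field K] [AddCommGroup E] [Module K E]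
    (T : ι → E) (hne : ∀ i, T i ≠ 0)
    (hsep : ∀ i j, i ≠ j → ∃ (L : E →+ E) (χ : ι → K),
      (∀ (c : K) (k : ι), L (c • T k) = (χ k * c) • T k) ∧ χ i ≠ χ j) :
    LinearIndependent K T := by
  classical
  rw [linearIndependent_iff']
  intro s
  induction s using Finset.induction with
  | empty => intro c _ i hi; simp at hi
  | @insert j s hjs ih =>
    intro c hc
    have hs : ∀ i ∈ s, c i = 0 := by
      intro i hi
      have hij : i ≠ j := fun h => hjs (h ▸ hi)
      obtain ⟨L, χ, hL, hχ⟩ := hsep i j hij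
      have h1 : ∑ k ∈ insert j s, (χ k * c k) • T k = 0 := by
        rw [← map_zero L, ← hc, map_sum]
        exact Finset.sum_congr rfl fun k _ => (hL (c k) k).symm
      have h2 : ∑ k ∈ s, ((χ k - χ j) * c k) • T k = 0 := by
        have h3 : ∑ k ∈ insert j s, ((χ k - χ j) * c k) • T k = 0 := by
          simp only [sub_mul, sub_smul, Finset.sum_sub_distrib, mul_smul (χ j), ← Finset.smul_sum]
          rw [h1, hc, smul_zero, sub_zero]
        rwa [Finset.sum_insert hjs, sub_self, zero_mul, zero_smul, zero_add] at h3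
      rcases mul_eq_zero.1 (ih _ h2 i hi) with h | h
      · exact absurd (sub_eq_zero.1 h) hχ
      · exact h
    intro i hi
    rcases Finset.mem_insert.1 hi with rfl | hi
    · rw [Finset.sum_insert hjs, Finset.sum_eq_zero (fun k hk => by rw [hs k hk, zero_smul]),
        add_zero] at hc
      exact (smul_eq_zero.1 hc).resolve_right (hne i)
    · exact hs i hi

/-- primitive groups have a regular pair -/
theorem primitive_case {G V : Type} [Group G] [Finite G] [AddCommGroup V] [Finite V]
    [DistribMulAction G V] [FaithfulSMul G V] [Nontrivial V] (hodd : Odd (Nat.card G))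
    (hirr : ∀ U : AddSubgroup V, (∀ g : G, ∀ v ∈ U, g • v ∈ U) → U = ⊥ ∨ U = ⊤)
    (hns : ¬ Nonempty (Sys G V)) (hM : ∀ k < Nat.card V, MainUpTo k) : Reg G V := by
  classical
  haveI : Fintype G := Fintype.ofFinite G
  haveI : Finite (AddMonoid.End V) :=
    Finite.of_injective (fun f : AddMonoid.End V => (f : V → V)) DFunLike.coe_injective
  -- a maximal abelian normal subgroup
  obtain ⟨A, ⟨hAn, hAab⟩, hAmax⟩ := Set.exists_max_image
    {N : Subgroup G | N.Normal ∧ ∀ x ∈ N, ∀ y ∈ N, x * y = y * x} (fun N => Nat.card N)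
    (Set.toFinite _) ⟨⊥, inferInstance, fun x hx y hy => by
      rw [Subgroup.mem_bot] at hx hy; rw [hx, hy]⟩
  haveI := hAn
  have hmax : ∀ N : Subgroup G, N.Normal → A ≤ N → (∀ x ∈ N, ∀ y ∈ N, x * y = y * x) → N = A :=
    fun N hN hAN hNab => (Subgroup.eq_of_le_of_card_ge hAN (hAmax N ⟨hN, hNab⟩)).symm
  have hfield := (field_or_sys hirr A hAab).resolve_right hns
  let K := envelope (V := V) A
  have hKc : ∀ a b : K, a * b = b * a := fun a b => Subtype.ext (envelope_comm hAab a.2 b.2)
  have hKfield : IsField K :=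
    { exists_pair_ne := ⟨0, 1, fun h => by
        obtain ⟨v, hv⟩ := exists_ne (0 : V)
        exact hv (congrArg (fun f : AddMonoid.End V => f v) (congrArg Subtype.val h)).symm⟩
      mul_comm := hKc
      mul_inv_cancel := fun {a} ha => by
        obtain ⟨l, hl, hal⟩ := hfield a.1 a.2 (fun h => ha (Subtype.ext h))
        exact ⟨⟨l, hl⟩, Subtype.ext hal⟩ }
  letI : Field K := hKfield.toField
  have hsmulK : ∀ (k : K) (v : V), k • v = (k : AddMonoid.End V) v := fun _ _ => rfl
  let sc : A → K := fun a => ⟨phi (a : G), phi_mem_envelope a.2⟩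
  have hsc : ∀ (a : A) (v : V), sc a • v = (a : G) • v := fun _ _ => rfl
  have hscinj : Function.Injective sc := fun a b h => Subtype.ext
    (FaithfulSMul.eq_of_smul_eq_smul fun v : V => congrArg (fun k : K => k • v) h)
  let scHom : A →* K :=
    { toFun := sc
      map_one' := Subtype.ext (map_one (DistribMulAction.toAddMonoidEnd G V))
      map_mul' := fun a b => Subtype.ext (map_mul (DistribMulAction.toAddMonoidEnd G V) _ _) }
  letI : CommGroup A := { (inferInstance : Group A) with
    mul_comm := fun a b => Subtype.ext (hAab _ a.2 _ b.2) }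
  haveI : IsCyclic A := isCyclic_of_injective_ringHom (f := scHom) hscinj
  let q := Nat.card K
  let n := Module.finrank K V
  haveI : Module.Finite K V := Module.Finite.of_finite
  have hV : Nat.card V = q ^ n := Module.natCard_eq_pow_finrank
  have hKne : ∀ a : A, sc a ≠ 0 := fun a h => by
    obtain ⟨v, hv⟩ := exists_ne (0 : V)
    have h1 := congrArg (fun k : K => k • v) h
    simp only [hsc, zero_smul] at h1
    exact hv ((smul_eq_zero_iff_eq _).1 h1)
  have haq : Nat.card A < q := by
    haveI : Fintype K := Fintype.ofFinite K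
    show Nat.card A < Nat.card K
    refine lt_of_le_of_lt (Nat.card_le_card_of_injective (fun a => (⟨sc a, hKne a⟩ : {k : K // k ≠ 0}))
      (fun a b h => hscinj (congrArg Subtype.val h))) ?_
    exact Finite.card_subtype_lt (x := (0 : K)) (fun h => h rfl)
  let C := Subgroup.centralizer (A : Set G)
  have hcA : ∀ a ∈ A, ∀ x ∈ C, a * x = x * a := fun a ha x hx =>
    Subgroup.mem_centralizer_iff.1 hx a ha
  have hlin : ∀ x ∈ C, ∀ (k : K) (v : V), x • k • v = k • x • v := by
    intro x hx k v
    have h : envelope (V := V) A ≤ Subring.centralizer {(phi x : AddMonoid.End V)} := by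
      refine Subring.closure_le.2 ?_
      rintro _ ⟨a, ha, rfl⟩
      rw [SetLike.mem_coe, Subring.mem_centralizer_iff]
      rintro _ rfl
      rw [← map_mul, ← map_mul, hcA a ha x hx]
    have h1 := Subring.mem_centralizer_iff.1 (h k.2) _ rfl
    exact congrArg (fun f : AddMonoid.End V => f v) h1
  obtain ⟨a₀, ha₀⟩ := IsCyclic.exists_generator (α := A)
  have hC_of : ∀ g : G, g * a₀ * g⁻¹ = a₀ → g ∈ C := by
    intro g hg
    rw [Subgroup.mem_centralizer_iff]
    intro y hy
    obtain ⟨k, hk⟩ := ha₀ ⟨y, hy⟩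
    have hy' : y = (a₀ : G) ^ k := by rw [← Subgroup.coe_zpow]; exact congrArg Subtype.val hk.symm
    have hc : Commute g (a₀ : G) := by
      show g * _ = _ * g
      rw [← mul_inv_eq_iff_eq_mul]; exact hg
    rw [hy']
    exact (hc.zpow_right k).eq.symm
  have hsemi : ∀ (g : G) (a : A) (v : V),
      g • sc a • v = sc ⟨g * a * g⁻¹, hAn.conj_mem _ a.2 g⟩ • g • v := fun g a v => by
    rw [hsc, hsc, ← mul_smul, ← mul_smul, inv_mul_cancel_right]
  obtain ⟨M, hTS⟩ := exists_twoStep hodd A hmax
  have hAM := hTS.hAM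
  have hMC := hTS.hMC
  by_cases hMA : M = A
  · -- semilinear
    have hCA : C = A := le_antisymm (fun x hx => hMA ▸ hTS.hK x hx fun y hy => by
      rw [hMA] at hy
      rw [commutatorElement_eq_one_iff_mul_comm.2 (hcA y hy x hx).symm]
      exact A.one_mem) (hAM.trans hMC)
    obtain ⟨v, hv⟩ := exists_ne (0 : V)
    refine ⟨v, (a₀ : G) • v, fun g h1 h2 => ?_⟩
    have h3 : g * a₀ * g⁻¹ = a₀ := by
      have h4 := hsemi g a₀ v
      rw [h1, hsc, h2, ← hsc] at h4
      have h5 : (sc ⟨g * a₀ * g⁻¹, hAn.conj_mem _ a₀.2 g⟩ - sc a₀) • v = 0 := by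
        rw [sub_smul, ← h4, sub_self]
      exact congrArg Subtype.val (hscinj (sub_eq_zero.1 ((smul_eq_zero.1 h5).resolve_right hv)))
    have hgA : g ∈ A := hCA ▸ hC_of g h3
    intro x
    have h6 : (sc ⟨g, hgA⟩ - 1) • v = 0 := by rw [sub_smul, one_smul, hsc, h1, sub_self]
    have h7 := sub_eq_zero.1 ((smul_eq_zero.1 h6).resolve_right hv)
    rw [← hsc ⟨g, hgA⟩, h7, one_smul]
  -- the parameters
  obtain ⟨L, hAL, hLM, hL⟩ := hTS.hsym
  obtain ⟨e, he⟩ : ∃ e, Nat.card L = Nat.card A * e := Subgroup.card_dvd_of_le hAL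
  have hM2 : Nat.card M = Nat.card A * (e * e) :=
    Nat.eq_of_mul_eq_mul_right Nat.card_pos (by rw [hL, he]; ring)
  have heodd : Odd e := (hodd.of_dvd_nat (Subgroup.card_subgroup_dvd_card L)).of_dvd_nat
    ⟨Nat.card A, by rw [he, mul_comm]⟩
  have he3 : 3 ≤ e := three_le_of_odd heodd fun h1 => hMA
    (Subgroup.eq_of_le_of_card_ge hAM (by rw [hM2, h1]; simp)).symm
  have hMn := hTS.hMn
  have hsep : ∀ z ∈ M, z ∉ A → ∃ y ∈ M, ∃ hc : ⁅z, y⁆ ∈ A, (⟨_, hc⟩ : A) ≠ 1 := by
    intro z hz hzA
    by_contra hno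
    push Not at hno
    exact hzA (hTS.hZ ▸ ⟨hz, Subgroup.mem_centralizer_iff.2 fun y hy =>
      (commutatorElement_eq_one_iff_mul_comm.1
        (congrArg Subtype.val (hno y hy (hTS.hMA z hz y hy)))).symm⟩)
  have hcomm_smul : ∀ (z y : G) (hc : ⁅z, y⁆ ∈ A) (v : V),
      z • y • v = sc ⟨_, hc⟩ • y • z • v := fun z y hc v => by
    rw [hsc]
    simp only [← mul_smul, commutatorElement_def]
    group
  -- dimension
  haveI : (A.subgroupOf M).Normal := hAn.subgroupOf M
  let Q := M ⧸ A.subgroupOf M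
  haveI : Fintype Q := Fintype.ofFinite Q
  have hQ : Nat.card Q = e * e := by
    have h1 := Subgroup.card_eq_card_quotient_mul_card_subgroup (A.subgroupOf M)
    rw [Nat.card_congr (Subgroup.subgroupOfEquivOfLe hAM).toEquiv, hM2, mul_comm] at h1
    exact (Nat.eq_of_mul_eq_mul_right Nat.card_pos h1).symm
  have hmn : e * e ≤ n * n := by
    let T : Q → Module.End K V := fun i =>
      { toFun := fun v => (i.out : G) • v
        map_add' := fun v w => smul_add _ v w
        map_smul' := fun k v => hlin _ (hMC i.out.2) k v }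
    have hind : LinearIndependent K T := by
      refine indep_of_eigen T (fun i h => ?_) fun i j hij => ?_
      · obtain ⟨v, hv⟩ := exists_ne (0 : V)
        exact hv ((smul_eq_zero_iff_eq _).1 (LinearMap.congr_fun h v))
      · have hnA : (j.out : G)⁻¹ * (i.out : G) ∉ A := fun h => hij (by
          rw [← QuotientGroup.out_eq' i, ← QuotientGroup.out_eq' j]
          exact (QuotientGroup.eq.2 (Subgroup.mem_subgroupOf.2 (by exact h))).symm)
        obtain ⟨y, hy, hc, hne⟩ := hsep _ (M.mul_mem (M.inv_mem j.out.2) i.out.2) hnA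
        let Ly : Module.End K V →+ Module.End K V :=
          { toFun := fun f =>
              { toFun := fun v => y • f (y⁻¹ • v)
                map_add' := fun v w => by simp [smul_add]
                map_smul' := fun k v => by
                  rw [hlin _ (C.inv_mem (hMC hy)), map_smul, hlin _ (hMC hy)]; rfl }
            map_zero' := by ext v; simp
            map_add' := fun f f' => by ext v; simp [smul_add] }
        refine ⟨Ly, fun k => sc ⟨⁅y, (k.out : G)⁆, hTS.hMA y hy _ k.out.2⟩, fun c k => ?_, ?_⟩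
        · ext v
          show y • c • (k.out : G) • y⁻¹ • v =
            (sc ⟨⁅y, (k.out : G)⁆, hTS.hMA y hy _ k.out.2⟩ * c) • (k.out : G) • v
          rw [hlin y (hMC hy), hcomm_smul y k.out (hTS.hMA y hy _ k.out.2), smul_inv_smul,
            smul_smul, mul_comm]
        · intro heq
          have h1 : ⁅y, (i.out : G)⁆ = ⁅y, (j.out : G)⁆ := congrArg Subtype.val (hscinj heq)
          apply hne
          apply Subtype.ext
          show ⁅(j.out : G)⁻¹ * (i.out : G), y⁆ = 1
          have hprod : ⁅y, (j.out : G)⁆ * ⁅y, (j.out : G)⁻¹ * (i.out : G)⁆ = ⁅y, (i.out : G)⁆ := by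
            rw [← comm_mul_right (hTS.hMA y hy _ (M.mul_mem (M.inv_mem j.out.2) i.out.2))
              (fun a ha => hcA a ha _ (hMC j.out.2)), mul_inv_cancel_left]
          rw [h1, mul_eq_left] at hprod
          rw [← inv_inj, commutatorElement_inv, hprod, inv_one]
    have h := hind.fintype_card_le_finrank
    rw [Module.finrank_linearMap, ← Nat.card_eq_fintype_card, hQ] at h
    exact h
  have hen : e ≤ n := Nat.mul_self_le_mul_self_iff.1 hmn
  -- primes of `e`
  have hrq : ∀ r : ℕ, r.Prime → r ∣ e → r < q := by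
    intro r hr hre
    haveI := Fact.mk hr
    haveI : Fintype Kˣ := Fintype.ofFinite _
    obtain ⟨zb, hzb⟩ := exists_prime_orderOf_dvd_card' (G := Q) r (by rw [hQ]; exact hre.mul_right e)
    obtain ⟨⟨z, hz⟩, rfl⟩ := QuotientGroup.mk'_surjective _ zb
    have hzA : z ∉ A := fun hzA => hr.ne_one (by
      rw [← hzb, orderOf_eq_one_iff]
      exact (QuotientGroup.eq_one_iff _).2 (Subgroup.mem_subgroupOf.2 hzA))
    have hzr : z ^ r ∈ A := by
      have h1 := pow_orderOf_eq_one ((QuotientGroup.mk' (A.subgroupOf M)) (⟨z, hz⟩ : M))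
      rw [hzb, ← map_pow] at h1
      exact Subgroup.mem_subgroupOf.1 ((QuotientGroup.eq_one_iff _).1 h1)
    obtain ⟨y, hy, hc, hne⟩ := hsep z hz hzA
    have hpow : ∀ k : ℕ, ⁅z ^ k, y⁆ = ⁅z, y⁆ ^ k := by
      intro k
      induction k with
      | zero => simp
      | succ k ih =>
        rw [pow_succ, pow_succ', comm_mul_left hc (fun a ha => hcA a ha _ (C.pow_mem (hMC hz) k)), ih]
    have hord : orderOf (⟨_, hc⟩ : A) = r := by
      refine orderOf_eq_prime (Subtype.ext ?_) hne
      show ⁅z, y⁆ ^ r = 1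
      rw [← hpow]
      exact commutatorElement_eq_one_iff_mul_comm.2 (hcA _ hzr y (hMC hy))
    have h2 : r ≤ Nat.card A := hord ▸ orderOf_le_card
    omega
  have hq4 : 4 ≤ q := by
    obtain ⟨r, hr, hre⟩ := Nat.exists_prime_and_dvd (show e ≠ 1 by omega)
    have := hrq r hr hre
    have := three_le_of_odd (heodd.of_dvd_nat hre) hr.ne_one
    omega
  have hmV : e * e < Nat.card V := by
    rw [hV]
    refine lt_of_le_of_lt hmn ?_
    calc n * n < 4 ^ n := by
          have h1 : n < 2 ^ n := Nat.lt_two_pow_self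
          rw [show (4 : ℕ) = 2 * 2 from rfl, mul_pow]
          exact Nat.mul_lt_mul'' h1 h1
      _ ≤ q ^ n := Nat.pow_le_pow_left hq4 n
  obtain ⟨s, hCs, hsodd, hs2, hsq⟩ := quot_bounds hodd A M hTS (e * e) hM2 (hM _ hmV)
  have hparams : Params q n e s := by
    refine ⟨hq4, heodd, he3, hen, hrq, ?_, ?_, ?_, ?_, ?_⟩
    · calc s ≤ (e * e) ^ 2 := hs2
        _ = e ^ 4 := by ring
    · rintro rfl
      obtain ⟨h1, h2, -⟩ := hsq 3 2 Nat.prime_three (by norm_num)
      have h3 : s ∣ 3 ^ 1 * 1 := odd_dvd_of_dvd_two_pow_mul (k := 4) hsodd (by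
        simpa [Fin.prod_univ_succ] using h1)
      rcases h2 1 1 (Or.inr rfl) (by norm_num) h3 with h | h
      · have := hsodd.pos
        omega
      · exact h
    · rintro rfl
      obtain ⟨h1, -, -⟩ := hsq 5 2 (by norm_num) (by norm_num)
      exact Nat.le_of_dvd (by norm_num) (odd_dvd_of_dvd_two_pow_mul (k := 5) hsodd (by
        simpa [Fin.prod_univ_succ] using h1))
    · rintro rfl
      obtain ⟨h1, -, -⟩ := hsq 7 2 (by norm_num) (by norm_num)
      exact Nat.le_of_dvd (by norm_num) (odd_dvd_of_dvd_two_pow_mul (k := 5) hsodd (by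
        simpa [Fin.prod_univ_succ] using h1))
    · rintro rfl
      obtain ⟨h1, h2, h13⟩ := hsq 3 4 Nat.prime_three (by norm_num)
      have h3 : s ∣ 13 * (3 ^ 6 * 5) := odd_dvd_of_dvd_two_pow_mul (k := 9) hsodd (by
        simpa [Fin.prod_univ_succ] using h1)
      have h4 : Nat.Coprime s 13 :=
        ((by norm_num : Nat.Prime 13).coprime_iff_not_dvd.2 (h13 rfl rfl)).symm
      have h5 : s ∣ 3 ^ 6 * 5 := h4.dvd_of_dvd_mul_left h3
      rcases h2 6 5 (Or.inl (by norm_num)) (by norm_num) h5 with h | h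
      · by_contra hlt
        obtain ⟨k, rfl⟩ := hsodd
        have : k ≤ 9 := by omega
        interval_cases k <;> first | omega | norm_num at h5
      · omega
  -- fixed point bounds
  let u := (n + 2) / 3
  have hq1 : 1 < q := by omega
  have hone : ∀ g : G, g ≠ 1 → g ∈ A → fx V g = 1 := by
    intro g hg hgA
    rw [fx, AddSubgroup.card_eq_one, eq_bot_iff]
    intro v hv
    rw [AddSubgroup.mem_bot]
    by_contra hv0
    have h1 : (sc ⟨g, hgA⟩ - 1) • v = 0 := by
      rw [sub_smul, one_smul, hsc, mem_fixSub.1 hv, sub_self]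
    have h2 := sub_eq_zero.1 ((smul_eq_zero.1 h1).resolve_right hv0)
    apply hg
    refine FaithfulSMul.eq_of_smul_eq_smul fun w : V => ?_
    rw [one_smul, ← hsc ⟨g, hgA⟩, h2, one_smul]
  have hfxM : ∀ g ∈ M, g ∉ A → fx V g ≤ q ^ u ∧ fx V g ^ 3 ≤ q ^ n := by
    intro g hg hgA
    obtain ⟨y, hy, hc, hne⟩ := hsep g hg hgA
    have h2 : (⟨_, hc⟩ : A) * ⟨_, hc⟩ ≠ 1 := fun h => hne (by
      have h1 : orderOf (⟨_, hc⟩ : A) ∣ 2 := orderOf_dvd_of_pow_eq_one (by rw [pow_two, h])
      rcases (Nat.dvd_prime Nat.prime_two).1 h1 with h3 | h3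
      · exact orderOf_eq_one_iff.1 h3
      · exfalso
        have h4 : Odd 2 := h3 ▸ (hodd.of_dvd_nat (Subgroup.card_subgroup_dvd_card A)).of_dvd_nat
          (orderOf_dvd_natCard _)
        exact absurd h4 (by decide))
    have hcube : fx V g ^ 3 ≤ q ^ n := hV ▸ fx_cube_le_of_scalar g y (sc ⟨_, hc⟩)
      (hlin g (hMC hg)) (hlin y (hMC hy)) (hcomm_smul g y hc)
      (fun h => hne (hscinj (h.trans (map_one scHom).symm)))
      (fun h => h2 (hscinj ((map_mul scHom _ _).trans (h.trans (map_one scHom).symm))))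
      (hKne _)
    exact ⟨le_pow_of_cube hq1 hcube (by omega), hcube⟩
  have hfxO : ∀ g : G, g ∉ C → fx V g ≤ q ^ u := by
    intro g hg
    have hcube : fx V g ^ 3 ≤ q ^ n := by
      rw [← hV]
      refine fx_cube_le_of_semilinear g (sc a₀) (sc ⟨g * a₀ * g⁻¹, hAn.conj_mem _ a₀.2 g⟩)
        (sc ⟨g * (g * a₀ * g⁻¹) * g⁻¹, hAn.conj_mem _ (hAn.conj_mem _ a₀.2 g) g⟩)
        (hsemi g a₀) (hsemi g ⟨_, _⟩) ?_ ?_ ?_
      · exact fun h => hg (hC_of g (congrArg Subtype.val (hscinj h)).symm)
      · intro h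
        apply hg
        apply hC_of
        have h1 : g ^ 2 * a₀ * (g ^ 2)⁻¹ = a₀ := by
          calc g ^ 2 * a₀ * (g ^ 2)⁻¹ = g * (g * a₀ * g⁻¹) * g⁻¹ := by
                simp [pow_two, mul_assoc]
            _ = a₀ := (congrArg Subtype.val (hscinj h)).symm
        obtain ⟨k, hk⟩ := pow_eq_self_of_odd hodd g
        have hc : Commute (g ^ 2) (a₀ : G) := mul_inv_eq_iff_eq_mul.1 h1
        have hc2 : Commute g (a₀ : G) := hk ▸ hc.pow_left k
        rw [hc2.eq, mul_inv_cancel_right]
      · intro h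
        apply hg
        apply hC_of
        have h1 := congrArg Subtype.val (hscinj h)
        simp only at h1
        rwa [eq_comm, mul_left_inj, mul_right_inj] at h1
    exact le_pow_of_cube hq1 hcube (by omega)
  have hfxC : ∀ g ∈ C, g ∉ M → fx V g ≤ q ^ (n - u) := by
    intro g hg hgM
    obtain ⟨y, hy, hyA⟩ : ∃ y ∈ M, ⁅y, g⁆ ∉ A := by
      by_contra hno
      push Not at hno
      refine hgM (hTS.hK g hg fun y hy => ?_)
      rw [← commutatorElement_inv]
      exact A.inv_mem (hno y hy)
    have hzM : ⁅y, g⁆ ∈ M := by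
      rw [commutatorElement_def, mul_assoc, mul_assoc, ← mul_assoc g]
      exact M.mul_mem hy (hMn.conj_mem _ (M.inv_mem hy) g)
    have h1 := fx_sq_le (V := V) g y
    have h2 := (hfxM _ hzM hyA).2
    have h3 : fx V g ^ 6 ≤ q ^ (4 * n) := by
      calc fx V g ^ 6 = (fx V g ^ 2) ^ 3 := by ring
        _ ≤ (q ^ n * fx V ⁅y, g⁆) ^ 3 := Nat.pow_le_pow_left (hV ▸ h1) 3
        _ = (q ^ n) ^ 3 * fx V ⁅y, g⁆ ^ 3 := by ring
        _ ≤ (q ^ n) ^ 3 * q ^ n := Nat.mul_le_mul_left _ h2
        _ = q ^ (4 * n) := by rw [← pow_mul, ← pow_add]; congr 1; omega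
    let F : Submodule K V :=
      { carrier := {v | g • v = v}
        add_mem' := fun ha hb => (fixSub g).add_mem ha hb
        zero_mem' := smul_zero g
        smul_mem' := fun k v hv => by
          show g • k • v = k • v
          rw [hlin g hg, show g • v = v from hv] }
    haveI : Module.Finite K F := Module.Finite.of_finite
    have hF : fx V g = q ^ Module.finrank K F := Module.natCard_eq_pow_finrank (V := F)
    rw [hF, ← pow_mul] at h3
    have h4 := (Nat.pow_le_pow_iff_right hq1).1 h3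
    rw [hF]
    exact Nat.pow_le_pow_right (by omega) (by omega)
  -- counting
  let bad : Finset G := Finset.univ.erase 1
  suffices hsum : ∑ g ∈ bad, fx V g ^ 2 < Nat.card (V × V) by
    by_contra hcon
    have hcov : ∀ p : V × V, ∃ g ∈ bad, g • p.1 = p.1 ∧ g • p.2 = p.2 := by
      intro p
      by_contra hno
      push Not at hno
      refine hcon ⟨p.1, p.2, fun g h1 h2 x => ?_⟩
      by_cases hg : g = 1
      · rw [hg, one_smul]
      · exact absurd h2 (hno g (Finset.mem_erase.2 ⟨hg, Finset.mem_univ g⟩) h1)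
    haveI : Fintype V := Fintype.ofFinite V
    let f : G → Finset (V × V) := fun g =>
      Finset.univ.filter fun p => g • p.1 = p.1 ∧ g • p.2 = p.2
    have h1 : (Finset.univ : Finset (V × V)).card ≤ (bad.biUnion f).card := by
      refine Finset.card_le_card fun p _ => ?_
      obtain ⟨g, hg, hp⟩ := hcov p
      exact Finset.mem_biUnion.2 ⟨g, hg, Finset.mem_filter.2 ⟨Finset.mem_univ _, hp⟩⟩
    have h2 := h1.trans Finset.card_biUnion_le
    have h3 : ∀ g, (f g).card = fx V g ^ 2 := by
      intro g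
      rw [sq, fx, ← Nat.card_prod, ← Nat.card_eq_finsetCard]
      exact Nat.card_congr
        { toFun := fun p => (⟨p.1.1, (Finset.mem_filter.1 p.2).2.1⟩,
            ⟨p.1.2, (Finset.mem_filter.1 p.2).2.2⟩)
          invFun := fun p => ⟨(p.1.1, p.2.1),
            Finset.mem_filter.2 ⟨Finset.mem_univ _, p.1.2, p.2.2⟩⟩
          left_inv := fun p => rfl
          right_inv := fun p => rfl }
    simp only [h3, Finset.card_univ, ← Nat.card_eq_fintype_card] at h2
    omega
  rw [Nat.card_prod, hV, ← pow_add, ← two_mul]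
  have hcardG : Nat.card G ≤ Nat.card A * Nat.card C := by
    rw [← Subgroup.card_mul_index C, mul_comm (Nat.card A)]
    refine Nat.mul_le_mul_left _ (Nat.card_le_card_of_injective
      (fun c : G ⧸ C => (⟨c.out * a₀ * c.out⁻¹, hAn.conj_mem _ a₀.2 _⟩ : A)) ?_)
    intro c d h
    have h1 : (c.out : G) * a₀ * c.out⁻¹ = d.out * a₀ * d.out⁻¹ := congrArg Subtype.val h
    rw [← QuotientGroup.out_eq' c, ← QuotientGroup.out_eq' d]
    refine QuotientGroup.eq.2 (hC_of _ ?_)
    calc c.out⁻¹ * d.out * a₀ * (c.out⁻¹ * d.out)⁻¹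
        = c.out⁻¹ * (d.out * a₀ * d.out⁻¹) * c.out := by group
      _ = a₀ := by rw [← h1]; group
  let IM := bad.filter fun g => g ∈ M
  let OC := bad.filter fun g => g ∉ C
  let CM := bad.filter fun g => g ∈ C ∧ g ∉ M
  have hsplit : ∑ g ∈ bad, fx V g ^ 2 =
      ∑ g ∈ IM, fx V g ^ 2 + ∑ g ∈ OC, fx V g ^ 2 + ∑ g ∈ CM, fx V g ^ 2 := by
    rw [Finset.sum_filter, Finset.sum_filter, Finset.sum_filter, ← Finset.sum_add_distrib,
      ← Finset.sum_add_distrib]
    refine Finset.sum_congr rfl fun g _ => ?_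
    by_cases h1 : g ∈ C
    · by_cases h2 : g ∈ M <;> simp [h1, h2]
    · have h2 : g ∉ M := fun h => h1 (hMC h)
      simp [h1, h2]
  have hIM : ∑ g ∈ IM, fx V g ^ 2 ≤ Nat.card A * (e * e) * q ^ (2 * u) := by
    refine (Finset.sum_le_sum (g := fun _ => q ^ (2 * u)) fun g hg => ?_).trans ?_
    · rw [Finset.mem_filter, Finset.mem_erase] at hg
      rw [mul_comm 2, pow_mul]
      refine Nat.pow_le_pow_left ?_ 2
      by_cases hgA : g ∈ A
      · rw [hone g hg.1.1 hgA]; exact Nat.one_le_pow _ _ (by omega)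
      · exact (hfxM g hg.2 hgA).1
    · rw [Finset.sum_const, smul_eq_mul, ← hM2]
      refine Nat.mul_le_mul_right _ ?_
      rw [← Nat.card_eq_finsetCard]
      exact Nat.card_le_card_of_injective
        (fun g => (⟨g.1, (Finset.mem_filter.1 g.2).2⟩ : M))
        (fun a b h => Subtype.ext (by have := congrArg Subtype.val h; exact this))
  have hOC : ∑ g ∈ OC, fx V g ^ 2 ≤ Nat.card A * Nat.card A * (e * e * s) * q ^ (2 * u) := by
    refine (Finset.sum_le_sum (g := fun _ => q ^ (2 * u)) fun g hg => ?_).trans ?_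
    · rw [Finset.mem_filter] at hg
      rw [mul_comm 2, pow_mul]
      exact Nat.pow_le_pow_left (hfxO g hg.2) 2
    · rw [Finset.sum_const, smul_eq_mul]
      refine Nat.mul_le_mul_right _ ?_
      calc OC.card ≤ Fintype.card G := Finset.card_le_univ _
        _ = Nat.card G := (Nat.card_eq_fintype_card).symm
        _ ≤ _ := by
            refine hcardG.trans (le_of_eq ?_)
            rw [show Nat.card C = s * Nat.card M from hCs, hM2]; ring
  rw [hsplit]
  rcases eq_or_ne s 1 with rfl | hs1
  · have hCM : ∑ g ∈ CM, fx V g ^ 2 = 0 := by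
      refine Finset.sum_eq_zero fun g hg => absurd ?_ (Finset.mem_filter.1 hg).2.2
      have : M = C := Subgroup.eq_of_le_of_card_ge hMC (by rw [hCs, one_mul])
      exact this ▸ (Finset.mem_filter.1 hg).2.1
    rw [hCM, add_zero]
    refine lt_of_le_of_lt (Nat.add_le_add hIM hOC) ?_
    rw [mul_one, ← Nat.add_mul, add_comm]
    exact count_small hq4 (le_trans he3 hen) rfl haq (Nat.mul_pos (by omega) (by omega)) hmn
  · have hCM : ∑ g ∈ CM, fx V g ^ 2 ≤
        s * (e * e) * (q ^ (2 * (n - u)) + Nat.card A * q ^ n) := by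
      haveI : Fintype (G ⧸ A) := Fintype.ofFinite _
      let π : G → G ⧸ A := fun g => (g : G ⧸ A)
      rw [← Finset.sum_fiberwise_of_maps_to (g := π) (t := CM.image π)
        (fun g hg => Finset.mem_image_of_mem π hg)]
      refine (Finset.sum_le_sum (g := fun _ => q ^ (2 * (n - u)) + Nat.card A * q ^ n)
        fun b hb => ?_).trans ?_
      · refine (sum_sq_le _ (fx V) (q ^ (n - u)) (q ^ n) (fun g hg => ?_) ?_).trans ?_
        · rw [Finset.mem_filter, Finset.mem_filter] at hg
          exact hfxC g hg.1.2.1 hg.1.2.2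
        · intro g hg h hh hne
          rw [Finset.mem_filter] at hg hh
          rw [← hV]
          refine fx_mul_le fun v h1 h2 => ?_
          have hA' : g⁻¹ * h ∈ A := QuotientGroup.eq.1 (hg.2.trans hh.2.symm)
          have h3 : (g⁻¹ * h) • v = v := by rw [mul_smul, h2, inv_smul_eq_iff, h1]
          by_contra hv0
          have h4 := hone _ (fun h5 => hne (inv_mul_eq_one.1 h5)) hA'
          rw [fx, AddSubgroup.card_eq_one] at h4
          have h5 : v ∈ fixSub (V := V) (g⁻¹ * h) := h3
          rw [h4, AddSubgroup.mem_bot] at h5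
          exact hv0 h5
        · rw [mul_comm 2, pow_mul]
          refine Nat.add_le_add_left (Nat.mul_le_mul_right _ ?_) _
          rw [← Nat.card_eq_finsetCard]
          refine Nat.card_le_card_of_injective (fun g => (⟨b.out⁻¹ * g.1, ?_⟩ : A)) ?_
          · exact QuotientGroup.eq.1 (by
              rw [QuotientGroup.out_eq']; exact (Finset.mem_filter.1 g.2).2.symm)
          · intro x y h
            exact Subtype.ext (mul_left_cancel (congrArg Subtype.val h :))
      · rw [Finset.sum_const, smul_eq_mul]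
        refine Nat.mul_le_mul_right _ ?_
        have h1 : Nat.card (C.map (QuotientGroup.mk' A)) = s * (e * e) := by
          have h2 := card_map_mk A C (hAM.trans hMC)
          rw [show Nat.card C = s * Nat.card M from hCs, hM2] at h2
          exact Nat.eq_of_mul_eq_mul_right Nat.card_pos (h2.trans (by ring))
        rw [← h1, ← Nat.card_eq_finsetCard]
        refine Nat.card_le_card_of_injective (fun b => (⟨b.1, ?_⟩ : C.map (QuotientGroup.mk' A))) ?_
        · obtain ⟨g, hg, hgb⟩ := Finset.mem_image.1 b.2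
          exact ⟨g, (Finset.mem_filter.1 hg).2.1, hgb⟩
        · intro x y h
          exact Subtype.ext (by have := congrArg Subtype.val h; exact this)
    refine lt_of_le_of_lt (Nat.add_le_add (Nat.add_le_add hIM hOC) hCM) ?_
    rw [← Nat.add_mul, add_comm (Nat.card A * (e * e))]
    refine count_large hq4 ?_ rfl haq (Nat.mul_pos (by omega) (by omega)) hsodd.pos (numeric hparams hs1)
    rcases Nat.lt_or_ge e 5 with h | h
    · exfalso
      obtain ⟨k, hk⟩ := heodd
      exact hs1 (hparams.three (by omega))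
    · omega

end Cfsg.Agent.OP71
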