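import Cfsg.Agent.Lib.OddPair71.Gluck
import Cfsg.Agent.Lib.OddPair71.Prim

/-!
# The induction
-/

set_option autoImplicit false
set_option linter.unusedSectionVars false
set_option linter.style.haveILetI false

namespace Cfsg.Agent.OP71

/-- the action on an invariant subgroup -/
@[reducible] def subAct {G V : Type} [Group G] [AddCommGroup V] [DistribMulAction G V]
    (U : AddSubgroup V) (hU : ∀ g : G, ∀ v ∈ U, g • v ∈ U) : DistribMulAction G U where
  smul g u := ⟨g • u.1, hU g u.1 u.2⟩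
  one_smul u := Subtype.ext (one_smul G u.1)
  mul_smul a b u := Subtype.ext (mul_smul a b u.1)
  smul_zero g := Subtype.ext (smul_zero g)
  smul_add g u v := Subtype.ext (smul_add g u.1 v.1)

theorem cr_sub {G V : Type} [Group G] [AddCommGroup V] [DistribMulAction G V] (hcr : CR G V)
    (U : AddSubgroup V) (hU : ∀ g : G, ∀ v ∈ U, g • v ∈ U) :
    letI := subAct U hU
    CR G U := by
  letI := subAct U hU
  intro X hX
  obtain ⟨Y, hY, hdis, hsup⟩ := hcr (X.map U.subtype) (fun g v hv => by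
    obtain ⟨x, hx, rfl⟩ := hv
    exact ⟨g • x, hX g x hx, rfl⟩)
  refine ⟨Y.comap U.subtype, fun g w hw => hY g w.1 hw, ?_, ?_⟩
  · rw [eq_bot_iff]
    rintro w ⟨hwX, hwY⟩
    have : w.1 ∈ X.map U.subtype ⊓ Y := ⟨⟨w, hwX, rfl⟩, hwY⟩
    rw [hdis, AddSubgroup.mem_bot] at this
    exact Subtype.ext this
  · rw [eq_top_iff]
    intro w _
    have : w.1 ∈ X.map U.subtype ⊔ Y := hsup ▸ AddSubgroup.mem_top _
    obtain ⟨_, ⟨x, hx, rfl⟩, y, hy, hxy⟩ := AddSubgroup.mem_sup.1 this
    have hyU : y ∈ U := by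
      have : y = w.1 - x.1 := by rw [← hxy]; simp
      rw [this]; exact U.sub_mem w.2 x.2
    exact AddSubgroup.mem_sup.2 ⟨x, hx, ⟨y, hyU⟩, hy, Subtype.ext hxy⟩

/-- two regular pairs in different orbits -/
theorem two_pairs {H W : Type} [Group H] [Finite H] [AddCommGroup W] [Nontrivial W]
    [DistribMulAction H W] (hodd : Odd (Nat.card H)) (h : Reg H W) :
    ∃ P Q : W × W,
      (∀ a : H, a • P.1 = P.1 → a • P.2 = P.2 → ∀ x : W, a • x = x) ∧
      (∀ a : H, a • Q.1 = Q.1 → a • Q.2 = Q.2 → ∀ x : W, a • x = x) ∧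
      ∀ a : H, a • P.1 = Q.1 → a • P.2 = Q.2 → False := by
  obtain ⟨v, w, hvw⟩ := h
  by_cases hne : v = w
  · subst hne
    obtain ⟨y, hy, hyreg⟩ : ∃ y : W, y ≠ 0 ∧ ∀ a : H, a • y = y → ∀ x : W, a • x = x := by
      by_cases hv : v = 0
      · obtain ⟨y, hy⟩ := exists_ne (0 : W)
        exact ⟨y, hy, fun a _ => hvw a (by rw [hv, smul_zero]) (by rw [hv, smul_zero])⟩
      · exact ⟨v, hv, fun a ha => hvw a ha ha⟩
    refine ⟨(y, 0), (0, y), fun a h1 _ => hyreg a h1, fun a _ h2 => hyreg a h2, fun a h1 _ => ?_⟩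
    exact hy ((smul_eq_zero_iff_eq a).1 h1)
  · refine ⟨(v, w), (w, v), hvw, fun a h1 h2 => hvw a h2 h1, fun a h1 h2 => hne ?_⟩
    exact (fix_of_swap hodd h1 h2).symm.trans h1

/-- every odd-order completely reducible group has a regular pair -/
theorem main : ∀ n, MainUpTo n := by
  intro n
  induction n using Nat.strong_induction_on with
  | _ n ih =>
    intro G V _ _ _ _ _ hodd hcr hle
    classical
    rcases lt_or_eq_of_le hle with hlt | heq
    · exact ih _ hlt G V hodd hcr le_rfl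
    rcases subsingleton_or_nontrivial V with hsub | hnt
    · exact ⟨0, 0, fun g _ _ x => hsub.elim _ _⟩
    by_cases hirr : ∀ U : AddSubgroup V, (∀ g : G, ∀ v ∈ U, g • v ∈ U) → U = ⊥ ∨ U = ⊤
    swap
    · push Not at hirr
      obtain ⟨U, hU, hUbot, hUtop⟩ := hirr
      obtain ⟨W, hW, hdis, hsup⟩ := hcr U hU
      have hlt : ∀ X : AddSubgroup V, X ≠ ⊤ → Nat.card X < n := fun X hX => heq ▸
        lt_of_le_of_ne (Nat.le_of_dvd Nat.card_pos (AddSubgroup.card_addSubgroup_dvd_card X))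
          fun h => hX (AddSubgroup.eq_top_of_card_eq X h)
      have hWtop : W ≠ ⊤ := fun h => hUbot (by rw [← hdis, h, inf_top_eq])
      obtain ⟨u₁, u₂, hu⟩ :=
        @ih _ (hlt U hUtop) G U _ _ _ _ (subAct U hU) hodd (cr_sub hcr U hU) le_rfl
      obtain ⟨w₁, w₂, hw⟩ :=
        @ih _ (hlt W hWtop) G W _ _ _ _ (subAct W hW) hodd (cr_sub hcr W hW) le_rfl
      refine ⟨u₁.1 + w₁.1, u₂.1 + w₂.1, fun g h1 h2 x => ?_⟩
      have key : ∀ (u : U) (w : W), g • (u.1 + w.1) = u.1 + w.1 →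
          g • u.1 = u.1 ∧ g • w.1 = w.1 := by
        intro u w h
        rw [smul_add] at h
        have h3 : g • u.1 - u.1 = w.1 - g • w.1 := by
          rw [sub_eq_sub_iff_add_eq_add, h, add_comm]
        have h4 : g • u.1 - u.1 ∈ U ⊓ W :=
          ⟨U.sub_mem (hU g _ u.2) u.2, h3 ▸ W.sub_mem w.2 (hW g _ w.2)⟩
        rw [hdis, AddSubgroup.mem_bot] at h4
        rw [h4] at h3
        exact ⟨sub_eq_zero.1 h4, (sub_eq_zero.1 h3.symm).symm⟩
      have hx : x ∈ U ⊔ W := hsup ▸ AddSubgroup.mem_top x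
      obtain ⟨a, ha, b, hb, rfl⟩ := AddSubgroup.mem_sup.1 hx
      have e1 : g • a = a := congrArg Subtype.val
        (hu g (Subtype.ext (key u₁ w₁ h1).1) (Subtype.ext (key u₂ w₂ h2).1) ⟨a, ha⟩)
      have e2 : g • b = b := congrArg Subtype.val
        (hw g (Subtype.ext (key u₁ w₁ h1).2) (Subtype.ext (key u₂ w₂ h2).2) ⟨b, hb⟩)
      rw [smul_add, e1, e2]
    -- irreducible: make it faithful
    let G' := (MulAction.toPermHom G V).range
    letI : DistribMulAction G' V := permAct G V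
    haveI : FaithfulSMul G' V := ⟨fun {a b} h => Subtype.ext (Equiv.ext h)⟩
    have hodd' : Odd (Nat.card G') := odd_range hodd _
    suffices hreg : Reg G' V by
      obtain ⟨v, w, h⟩ := hreg
      exact ⟨v, w, fun g h1 h2 x => h ⟨_, g, rfl⟩ h1 h2 x⟩
    have hirr' : ∀ U : AddSubgroup V, (∀ g : G', ∀ v ∈ U, g • v ∈ U) → U = ⊥ ∨ U = ⊤ :=
      fun U hU => hirr U fun g v hv => hU ⟨_, g, rfl⟩ v hv
    by_cases hsys : Nonempty (Sys G' V)
    swap
    · exact primitive_case hodd' hirr' hsys fun k hk => ih k (heq ▸ hk)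
    obtain ⟨S⟩ := hsys
    haveI := S.fin
    letI := S.act
    haveI : Fintype S.ι := Fintype.ofFinite _
    obtain ⟨i₀, j₀, hij₀⟩ := S.two
    have hnz : ∀ i, ∃ y, S.proj i y = y ∧ y ≠ 0 := fun i => by
      obtain ⟨x, hx⟩ := S.ne i
      exact ⟨S.proj i x, S.idem i x, hx⟩
    choose y hy hy0 using hnz
    have hyinj : Function.Injective y := fun i j h => by
      by_contra hne
      exact hy0 i (by rw [← hy i, h, ← hy j]; exact S.orth i j _ hne)
    have hιlt : Nat.card S.ι < n := by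
      rw [← heq]
      refine lt_of_le_of_lt (Nat.card_le_card_of_injective
        (fun i => (⟨y i, hy0 i⟩ : {v : V // v ≠ 0})) fun i j h => hyinj (congrArg Subtype.val h)) ?_
      exact Finite.card_subtype_lt (x := (0 : V)) (fun h => h rfl)
    obtain ⟨T, hT⟩ := gluck (ih _ hιlt) G' S.ι hodd' le_rfl
    let H := MulAction.stabilizer G' i₀
    let W : AddSubgroup V := (S.proj i₀).range
    have hWp : ∀ w ∈ W, S.proj i₀ w = w := by
      rintro _ ⟨x, rfl⟩; exact S.idem i₀ x
    have hWinv : ∀ h : H, ∀ w ∈ W, h • w ∈ W := fun h w hw => by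
      refine ⟨(h : G') • w, ?_⟩
      show S.proj i₀ ((h : G') • w) = (h : G') • w
      conv_rhs => rw [← hWp w hw, S.equiv, show (h : G') • i₀ = i₀ from h.2]
    letI : DistribMulAction H W := subAct W hWinv
    haveI : Nontrivial W := ⟨⟨⟨y i₀, y i₀, hy i₀⟩, 0, fun h => hy0 i₀ (congrArg Subtype.val h)⟩⟩
    have hWlt : Nat.card W < n := by
      rw [← heq]
      refine lt_of_le_of_ne (Nat.le_of_dvd Nat.card_pos (AddSubgroup.card_addSubgroup_dvd_card W))
        fun h => ?_
      have hmem : y j₀ ∈ W := (AddSubgroup.eq_top_of_card_eq W h) ▸ AddSubgroup.mem_top _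
      exact hy0 j₀ (by rw [← hWp _ hmem, ← hy j₀, S.orth i₀ j₀ _ hij₀])
    have hprojmove : ∀ (g : G') (i : S.ι) (x : V), S.proj i (g • x) = g • S.proj (g⁻¹ • i) x :=
      fun g i x => by rw [S.equiv, smul_inv_smul]
    have hWcr : CR H W := by
      refine cr_of_irr fun X hX => ?_
      let Xt : AddSubgroup V :=
        { carrier := {v | ∀ (i : S.ι) (g : G'), g • i₀ = i →
            ∃ x ∈ X, g⁻¹ • S.proj i v = (x : V)}
          add_mem' := fun {a b} ha hb i g hg => by
            obtain ⟨xa, hxa, ea⟩ := ha i g hg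
            obtain ⟨xb, hxb, eb⟩ := hb i g hg
            exact ⟨xa + xb, X.add_mem hxa hxb, by rw [map_add, smul_add, ea, eb]; rfl⟩
          zero_mem' := fun i g _ => ⟨0, X.zero_mem, by rw [map_zero, smul_zero]; rfl⟩
          neg_mem' := fun {a} ha i g hg => by
            obtain ⟨xa, hxa, ea⟩ := ha i g hg
            exact ⟨-xa, X.neg_mem hxa, by rw [map_neg, smul_neg, ea]; rfl⟩ }
      rcases hirr' Xt (fun h v hv i g hg => by
        obtain ⟨x, hx, ex⟩ := hv (h⁻¹ • i) (h⁻¹ * g) (by rw [mul_smul, hg])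
        refine ⟨x, hx, ?_⟩
        rw [← ex, hprojmove, mul_inv_rev, inv_inv, mul_smul]) with hb | ht
      · left
        rw [eq_bot_iff]
        intro x hx
        have hxt : (x : V) ∈ Xt := fun i g hg => by
          by_cases hi : i = i₀
          · subst hi
            have hgH : g⁻¹ ∈ H := H.inv_mem hg
            exact ⟨(⟨g⁻¹, hgH⟩ : H) • x, hX _ x hx, by rw [hWp _ x.2]; rfl⟩
          · refine ⟨0, X.zero_mem, ?_⟩
            rw [← hWp _ x.2, S.orth i i₀ _ hi, smul_zero]; rfl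
        rw [hb, AddSubgroup.mem_bot] at hxt
        rw [AddSubgroup.mem_bot]
        exact Subtype.ext hxt
      · right
        rw [eq_top_iff]
        intro w _
        obtain ⟨x, hx, ex⟩ := (ht ▸ AddSubgroup.mem_top (w : V) : (w : V) ∈ Xt) i₀ 1 (one_smul _ _)
        rw [inv_one, one_smul, hWp _ w.2] at ex
        rwa [show w = x from Subtype.ext ex]
    have hoddH : Odd (Nat.card H) := hodd'.of_dvd_nat (Subgroup.card_subgroup_dvd_card H)
    obtain ⟨P, Q, hP, hQ, hPQ⟩ := two_pairs hoddH (ih _ hWlt H W hoddH hWcr le_rfl)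
    choose t ht using fun i => S.trans i₀ i
    let c : S.ι → W × W := fun i => if i ∈ T then P else Q
    have hglue : ∀ f : S.ι → W, ∀ j,
        S.proj j (∑ i, t i • (f i : V)) = t j • (f j : V) := by
      intro f j
      rw [map_sum, Finset.sum_eq_single j]
      · conv_rhs => rw [← hWp _ (f j).2, S.equiv, ht]
      · intro i _ hi
        have h1 : t i • (f i : V) = S.proj i (t i • (f i : V)) := by
          conv_lhs => rw [← hWp _ (f i).2, S.equiv, ht]
        rw [h1, S.orth j i _ (Ne.symm hi)]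
      · simp
    refine ⟨∑ i, t i • ((c i).1 : V), ∑ i, t i • ((c i).2 : V), fun g h1 h2 => ?_⟩
    have hk : ∀ i, (t (g • i))⁻¹ * g * t i ∈ H := fun i => by
      show _ • i₀ = i₀
      rw [mul_smul, mul_smul, ht, inv_smul_eq_iff, ht]
    have hmap : ∀ i, (⟨_, hk i⟩ : H) • (c i).1 = (c (g • i)).1 ∧
        (⟨_, hk i⟩ : H) • (c i).2 = (c (g • i)).2 := by
      intro i
      constructor
      · refine Subtype.ext ?_
        show ((t (g • i))⁻¹ * g * t i) • ((c i).1 : V) = _
        rw [mul_smul, mul_smul, inv_smul_eq_iff, ← hglue (fun i => (c i).1) i,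
          S.equiv, h1, hglue (fun i => (c i).1)]
      · refine Subtype.ext ?_
        show ((t (g • i))⁻¹ * g * t i) • ((c i).2 : V) = _
        rw [mul_smul, mul_smul, inv_smul_eq_iff, ← hglue (fun i => (c i).2) i,
          S.equiv, h2, hglue (fun i => (c i).2)]
    have hcolour : ∀ i, g • i ∈ T ↔ i ∈ T := by
      intro i
      obtain ⟨e1, e2⟩ := hmap i
      simp only [c] at e1 e2
      by_cases ha : g • i ∈ T <;> by_cases hb : i ∈ T <;>
        simp only [ha, hb, if_true, if_false, not_true, not_false_iff, iff_self] at e1 e2 ⊢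
      · exact absurd (hPQ _ (by rw [← e1, inv_smul_smul] : (⟨_, hk i⟩ : H)⁻¹ • P.1 = Q.1)
          (by rw [← e2, inv_smul_smul])) id
      · exact absurd (hPQ _ e1 e2) id
    have hfixι := hT g hcolour
    intro x
    refine S.ext _ _ fun i => ?_
    have hi := hfixι i
    obtain ⟨e1, e2⟩ := hmap i
    replace e1 := e1.trans (congrArg (fun j => (c j).1) hi)
    replace e2 := e2.trans (congrArg (fun j => (c j).2) hi)
    have hreg : ∀ z : W, (⟨_, hk i⟩ : H) • z = z := by
      simp only [c] at e1 e2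
      by_cases hb : i ∈ T <;> simp only [hb, if_true, if_false] at e1 e2
      · exact hP _ e1 e2
      · exact hQ _ e1 e2
    have hzW : (t i)⁻¹ • S.proj i x ∈ W := ⟨(t i)⁻¹ • S.proj i x, by
      rw [S.equiv, show (t i)⁻¹ • i = i₀ by rw [inv_smul_eq_iff, ht], S.idem]⟩
    have h3 : ((t (g • i))⁻¹ * g * t i) • (t i)⁻¹ • S.proj i x = (t i)⁻¹ • S.proj i x :=
      congrArg Subtype.val (hreg ⟨_, hzW⟩)
    rw [mul_smul, mul_smul, smul_inv_smul, hi] at h3
    have h4 := MulAction.injective _ h3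
    conv_lhs => rw [hprojmove, show g⁻¹ • i = i by rw [inv_smul_eq_iff, hi], h4]

end Cfsg.Agent.OP71
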