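import Cfsg.Agent.Lib.OddPair71.Basic

/-!
# Pairings in class two and linear algebra lemmas
-/

set_option autoImplicit false
set_option linter.unusedSectionVars false
set_option linter.style.haveILetI false

open scoped commutatorElement

namespace Cfsg.Agent.OP71

theorem card_hom_cyclic_le (Q A : Type) [CommGroup Q] [Finite Q] [CommGroup A] [Finite A]
    [IsCyclic A] : Nat.card (Q →* A) ≤ Nat.card Q := by
  classical
  have hA : 0 < Nat.card A := Nat.card_pos
  haveI : NeZero (Nat.card A) := ⟨by omega⟩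
  have hr : Nat.card (rootsOfUnity (Nat.card A) ℂ) = Nat.card A :=
    Complex.card_rootsOfUnity _
  haveI : NeZero (Monoid.exponent Q) := ⟨Monoid.exponent_ne_zero_of_finite⟩
  let ι : A →* ℂˣ :=
    (rootsOfUnity (Nat.card A) ℂ).subtype.comp (mulEquivOfCyclicCardEq hr.symm).toMonoidHom
  have hι : Function.Injective ι := Subtype.val_injective.comp (MulEquiv.injective _)
  rw [← CommGroup.card_monoidHom_of_hasEnoughRootsOfUnity Q ℂ]
  haveI : Finite (Q →* ℂˣ) :=
    Finite.of_equiv Q (CommGroup.monoidHom_mulEquiv_of_hasEnoughRootsOfUnity Q ℂ).some.symm.toEquiv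
  exact Nat.card_le_card_of_injective (fun f => ι.comp f)
    (fun f g h => MonoidHom.ext fun x => hι (DFunLike.congr_fun h x))

section Pairing

variable {G : Type} [Group G] [Finite G]

theorem comm_mul_right {A : Subgroup G} {x y z : G}
    (hA : ⁅x, z⁆ ∈ A) (hyA : ∀ a ∈ A, a * y = y * a) :
    ⁅x, y * z⁆ = ⁅x, y⁆ * ⁅x, z⁆ := by
  have h : ⁅x, y * z⁆ = ⁅x, y⁆ * (y * ⁅x, z⁆ * y⁻¹) := by
    simp only [commutatorElement_def]; group
  rw [h, ← hyA _ hA, mul_inv_cancel_right]

theorem comm_mul_left {A : Subgroup G} {x x' y : G}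
    (hA : ⁅x', y⁆ ∈ A) (hxA : ∀ a ∈ A, a * x = x * a) :
    ⁅x * x', y⁆ = ⁅x', y⁆ * ⁅x, y⁆ := by
  have h : ⁅x * x', y⁆ = x * ⁅x', y⁆ * x⁻¹ * ⁅x, y⁆ := by
    simp only [commutatorElement_def]; group
  rw [h, ← hxA _ hA, mul_inv_cancel_right]

/-- the class two pairing bound -/
theorem pairing_bound (A X L B : Subgroup G) [IsCyclic A]
    (hAB : A ≤ B) (hBL : B ≤ L)
    (hXA : ∀ a ∈ A, ∀ x ∈ X, a * x = x * a) (hLA : ∀ a ∈ A, ∀ y ∈ L, a * y = y * a)
    (hXB : ∀ x ∈ X, ∀ b ∈ B, x * b = b * x)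
    (hXL : ∀ x ∈ X, ∀ y ∈ L, ⁅x, y⁆ ∈ A)
    (hLL : ∀ y ∈ L, ∀ z ∈ L, ⁅y, z⁆ ∈ A) :
    Nat.card X * Nat.card B ≤
      Nat.card (X ⊓ Subgroup.centralizer (L : Set G) : Subgroup G) * Nat.card L := by
  classical
  letI : CommGroup A := IsCyclic.commGroup
  haveI : (B.subgroupOf L).Normal := ⟨fun b hb y => by
    rw [Subgroup.mem_subgroupOf] at hb ⊢
    have h1 : ((y * b * y⁻¹ : L) : G) = ⁅(y : G), (b : G)⁆ * (b : G) := by
      simp only [Subgroup.coe_mul, InvMemClass.coe_inv, commutatorElement_def]; group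
    rw [h1]
    exact B.mul_mem (hAB (hLL _ y.2 _ b.2)) hb⟩
  let Q := L ⧸ B.subgroupOf L
  letI : CommGroup Q := { (inferInstance : Group Q) with
    mul_comm := fun a b => by
      obtain ⟨a, rfl⟩ := QuotientGroup.mk'_surjective _ a
      obtain ⟨b, rfl⟩ := QuotientGroup.mk'_surjective _ b
      rw [← map_mul, ← map_mul]
      apply QuotientGroup.eq.2
      rw [Subgroup.mem_subgroupOf]
      have h1 : (((a * b)⁻¹ * (b * a) : L) : G) = ⁅(b : G)⁻¹, (a : G)⁻¹⁆ := by
        simp only [Subgroup.coe_mul, InvMemClass.coe_inv, commutatorElement_def]; group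
      rw [h1]
      exact hAB (hLL _ (L.inv_mem b.2) _ (L.inv_mem a.2)) }
  have hhom : ∀ x : X, ∃ f : Q →* A, ∀ y : L,
      ((f (QuotientGroup.mk' _ y) : A) : G) = ⁅(x : G), (y : G)⁆ := by
    intro x
    let f₀ : L →* A :=
      { toFun := fun y => ⟨⁅(x : G), (y : G)⁆, hXL _ x.2 _ y.2⟩
        map_one' := Subtype.ext (by simp)
        map_mul' := fun y z => Subtype.ext
          (comm_mul_right (hXL _ x.2 _ z.2) (fun a ha => hLA a ha _ y.2)) }
    refine ⟨QuotientGroup.lift _ f₀ fun b hb => ?_, fun y => ?_⟩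
    · rw [MonoidHom.mem_ker]
      exact Subtype.ext (commutatorElement_eq_one_iff_mul_comm.2
        (hXB _ x.2 _ (Subgroup.mem_subgroupOf.1 hb)))
    · rfl
  choose f hf using hhom
  let Φ : X →* (Q →* A) :=
    { toFun := f
      map_one' := MonoidHom.ext fun q => by
        obtain ⟨y, rfl⟩ := QuotientGroup.mk'_surjective _ q
        apply Subtype.ext
        rw [hf]
        simp
      map_mul' := fun x x' => MonoidHom.ext fun q => by
        obtain ⟨y, rfl⟩ := QuotientGroup.mk'_surjective _ q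
        apply Subtype.ext
        rw [hf, Subgroup.coe_mul,
          comm_mul_left (hXL _ x'.2 _ y.2) (fun a ha => hXA a ha _ x.2), MonoidHom.mul_apply,
          Subgroup.coe_mul, hf, hf]
        exact congrArg Subtype.val (mul_comm (⟨_, hXL _ x'.2 _ y.2⟩ : A) ⟨_, hXL _ x.2 _ y.2⟩) }
  haveI : Finite (Q →* A) := Finite.of_injective _ DFunLike.coe_injective
  have hker : Φ.ker = (X ⊓ Subgroup.centralizer (L : Set G) : Subgroup G).subgroupOf X := by
    ext x
    rw [MonoidHom.mem_ker, Subgroup.mem_subgroupOf, Subgroup.mem_inf, Subgroup.mem_centralizer_iff]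
    constructor
    · intro h
      refine ⟨x.2, fun y hy => ?_⟩
      have h1 := hf x ⟨y, hy⟩
      rw [show f x = 1 from h, MonoidHom.one_apply, Subgroup.coe_one] at h1
      exact (commutatorElement_eq_one_iff_mul_comm.1 h1.symm).symm
    · rintro ⟨-, h⟩
      refine MonoidHom.ext fun q => ?_
      obtain ⟨y, rfl⟩ := QuotientGroup.mk'_surjective _ q
      apply Subtype.ext
      show ((f x (QuotientGroup.mk' _ y) : A) : G) = 1
      rw [hf]
      exact commutatorElement_eq_one_iff_mul_comm.2 (h _ y.2).symm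
  have hk : Nat.card Φ.ker = Nat.card (X ⊓ Subgroup.centralizer (L : Set G) : Subgroup G) := by
    rw [hker]; exact Nat.card_congr (Subgroup.subgroupOfEquivOfLe inf_le_left).toEquiv
  have hidx : Φ.ker.index ≤ Nat.card Q := by
    rw [Subgroup.index_ker]
    exact (Subgroup.card_le_card_group _).trans (card_hom_cyclic_le Q A)
  have hQ : Nat.card Q * Nat.card B = Nat.card L := by
    rw [← Nat.card_congr (Subgroup.subgroupOfEquivOfLe hBL).toEquiv]
    exact (Subgroup.card_eq_card_quotient_mul_card_subgroup _).symm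
  calc Nat.card X * Nat.card B = Nat.card Φ.ker * Φ.ker.index * Nat.card B := by
        rw [Subgroup.card_mul_index]
    _ ≤ Nat.card Φ.ker * Nat.card Q * Nat.card B :=
        Nat.mul_le_mul_right _ (Nat.mul_le_mul_left _ hidx)
    _ = _ := by rw [mul_assoc, hQ, hk]

end Pairing

theorem vand {K V : Type} [Field K] [AddCommGroup V] [Module K V] {x y z : K}
    (hxy : x ≠ y) (hxz : x ≠ z) (hyz : y ≠ z) {a b c : V}
    (h1 : a + x • b + (x * x) • c = 0) (h2 : a + y • b + (y * y) • c = 0)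
    (h3 : a + z • b + (z * z) • c = 0) : a = 0 ∧ b = 0 ∧ c = 0 := by
  have e1 : (x - y) • (b + (x + y) • c) = 0 := by
    have : (a + x • b + (x * x) • c) - (a + y • b + (y * y) • c) = 0 := by rw [h1, h2, sub_zero]
    rw [← this]; module
  have e2 : (x - z) • (b + (x + z) • c) = 0 := by
    have : (a + x • b + (x * x) • c) - (a + z • b + (z * z) • c) = 0 := by rw [h1, h3, sub_zero]
    rw [← this]; module
  have f1 := (smul_eq_zero.1 e1).resolve_left (sub_ne_zero.2 hxy)
  have f2 := (smul_eq_zero.1 e2).resolve_left (sub_ne_zero.2 hxz)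
  have f3 : (y - z) • c = 0 := by
    have : (b + (x + y) • c) - (b + (x + z) • c) = 0 := by rw [f1, f2, sub_zero]
    rw [← this]; module
  have hc := (smul_eq_zero.1 f3).resolve_left (sub_ne_zero.2 hyz)
  rw [hc, smul_zero, add_zero] at f1
  rw [hc, f1, smul_zero, smul_zero, add_zero, add_zero] at h1
  exact ⟨h1, f1, hc⟩

/-- a cube below a square power bounds the base -/
theorem le_pow_of_cube {q F n u : ℕ} (hq : 1 < q) (h : F ^ 3 ≤ q ^ n) (hu : n ≤ 3 * u) :
    F ≤ q ^ u := by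
  have h1 : F ^ 3 ≤ (q ^ u) ^ 3 := by
    rw [← pow_mul]
    exact h.trans (Nat.pow_le_pow_right (by omega) (by omega))
  exact (Nat.pow_le_pow_iff_left (by omega)).1 h1

/-- the sum of squares over a coset of scalars -/
theorem sum_sq_le {ι : Type} (s : Finset ι) (f : ι → ℕ) (B V : ℕ)
    (hB : ∀ i ∈ s, f i ≤ B) (hVpair : ∀ i ∈ s, ∀ j ∈ s, i ≠ j → f i * f j ≤ V) :
    ∑ i ∈ s, f i ^ 2 ≤ B ^ 2 + s.card * V := by
  classical
  rcases s.eq_empty_or_nonempty with rfl | hne
  · simp
  obtain ⟨i₀, hi₀, hmax⟩ := Finset.exists_max_image s f hne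
  rw [← Finset.add_sum_erase s _ hi₀]
  refine Nat.add_le_add (Nat.pow_le_pow_left (hB i₀ hi₀) 2) ?_
  refine le_trans (Finset.sum_le_sum (g := fun _ => V) fun j hj => ?_) ?_
  · obtain ⟨hne, hj⟩ := Finset.mem_erase.1 hj
    rw [sq]
    exact (Nat.mul_le_mul_left _ (hmax j hj)).trans (hVpair j hj i₀ hi₀ hne)
  · rw [Finset.sum_const, smul_eq_mul]
    exact Nat.mul_le_mul_right _ (Finset.card_erase_le)

end Cfsg.Agent.OP71
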