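import Cfsg.Agent.Lib.OddPair71.Struct

/-!
# The action on the symplectic quotient
-/

set_option autoImplicit false
set_option linter.unusedSectionVars false
set_option linter.style.haveILetI false

open scoped commutatorElement

namespace Cfsg.Agent.OP71

variable {G : Type} [Group G] [Finite G]

theorem card_map_mk (A N : Subgroup G) [A.Normal] (h : A ≤ N) :
    Nat.card (N.map (QuotientGroup.mk' A)) * Nat.card A = Nat.card N := by
  let f := (QuotientGroup.mk' A).comp N.subtype
  have hr : f.range = N.map (QuotientGroup.mk' A) := by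
    rw [MonoidHom.range_comp, Subgroup.range_subtype]
  have hk : f.ker = A.subgroupOf N := by
    rw [← MonoidHom.comap_ker, QuotientGroup.ker_mk']; rfl
  rw [← hr, ← Subgroup.index_ker, ← Nat.card_congr (Subgroup.subgroupOfEquivOfLe h).toEquiv, ← hk,
    mul_comm, Subgroup.card_mul_index]

/-- what is known on the parameters `m = e * e` and `s` -/
theorem quot_bounds (hodd : Odd (Nat.card G)) (A M : Subgroup G) [IsCyclic A] (h : TwoStep A M)
    (m : ℕ) (hm : Nat.card M = Nat.card A * m) (hMain : MainUpTo m) :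
    ∃ s, Nat.card (Subgroup.centralizer (A : Set G)) = s * Nat.card M ∧ Odd s ∧ s ≤ m ^ 2 ∧
      ∀ r j : ℕ, r.Prime → m = r ^ j →
        (s ∣ ∏ i : Fin j, (r ^ j - r ^ (i : ℕ))) ∧
        (∀ a t, (t.Prime ∨ t = 1) → t ≠ r → s ∣ r ^ a * t → s ≤ t * (t - 1) ∨ s = 1) ∧
        (r = 3 → j = 4 → ¬ 13 ∣ s) := by
  classical
  have hAn := h.hAn
  have hMn := h.hMn
  have hAM := h.hAM
  have hMC := h.hMC
  let C := Subgroup.centralizer (A : Set G)
  haveI hCn : C.Normal := Subgroup.normal_centralizer
  have hcA : ∀ a ∈ A, ∀ x ∈ C, a * x = x * a := fun a ha x hx =>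
    Subgroup.mem_centralizer_iff.1 hx a ha
  let π := QuotientGroup.mk' A
  let Mb := M.map π
  haveI : Mb.Normal := hMn.map π (QuotientGroup.mk'_surjective A)
  have hMbc : ∀ x ∈ Mb, ∀ y ∈ Mb, x * y = y * x := by
    rintro _ ⟨x, hx, rfl⟩ _ ⟨y, hy, rfl⟩
    rw [← commutatorElement_eq_one_iff_mul_comm, ← map_commutatorElement]
    exact (QuotientGroup.eq_one_iff _).2 (h.hMA x hx y hy)
  letI : CommGroup Mb := { (inferInstance : Group Mb) with
    mul_comm := fun a b => Subtype.ext (hMbc _ a.2 _ b.2) }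
  let W := Additive Mb
  letI : DistribMulAction G W :=
    { smul := fun g w => Additive.ofMul (MulAut.conjNormal (π g) w.toMul)
      one_smul := fun w => by
        show Additive.ofMul (MulAut.conjNormal (π (1 : G)) w.toMul) = w
        simp
      mul_smul := fun a b w => by
        show Additive.ofMul (MulAut.conjNormal (π (a * b)) w.toMul) =
          Additive.ofMul (MulAut.conjNormal (π a) (MulAut.conjNormal (π b) w.toMul))
        simp
      smul_zero := fun a => by
        show Additive.ofMul (MulAut.conjNormal (π a) (1 : Mb)) = 0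
        simp
      smul_add := fun a v w => by
        show Additive.ofMul (MulAut.conjNormal (π a) (v.toMul * w.toMul)) =
          Additive.ofMul (MulAut.conjNormal (π a) v.toMul) +
            Additive.ofMul (MulAut.conjNormal (π a) w.toMul)
        rw [map_mul]; rfl }
  let emb : (y : G) → y ∈ M → W := fun y hy => Additive.ofMul (⟨π y, y, hy, rfl⟩ : Mb)
  have hsurj : ∀ w : W, ∃ y, ∃ hy : y ∈ M, w = emb y hy := fun w => by
    obtain ⟨y, hy, hyw⟩ := w.toMul.2
    exact ⟨y, hy, congrArg Additive.ofMul (Subtype.ext hyw.symm : w.toMul = ⟨π y, y, hy, rfl⟩)⟩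
  have hemb : ∀ y hy z hz, emb y hy = emb z hz ↔ y⁻¹ * z ∈ A := fun y hy z hz => by
    constructor
    · intro he
      exact QuotientGroup.eq.1 (congrArg (fun w : W => ((w.toMul : Mb) : G ⧸ A)) he)
    · intro he
      exact congrArg Additive.ofMul (Subtype.ext (QuotientGroup.eq.2 he))
  have hact : ∀ (g y : G) (hy : y ∈ M),
      g • emb y hy = emb (g * y * g⁻¹) (hMn.conj_mem y hy g) := fun g y hy =>
    congrArg Additive.ofMul (Subtype.ext (by
      show π g * π y * (π g)⁻¹ = π (g * y * g⁻¹)
      simp [map_mul]) : MulAut.conjNormal (π g) (⟨π y, y, hy, rfl⟩ : Mb) = _)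
  have hW : Nat.card W = m := by
    have h1 := card_map_mk A M hAM
    rw [hm, mul_comm (Nat.card A)] at h1
    exact Nat.eq_of_mul_eq_mul_right Nat.card_pos h1
  -- complete reducibility
  have hcr : CR G W := by
    intro U hU
    let Ut : Subgroup G :=
      { carrier := {y | ∃ hy : y ∈ M, emb y hy ∈ U}
        mul_mem' := fun {a b} ⟨ha, ha'⟩ ⟨hb, hb'⟩ => ⟨M.mul_mem ha hb, by
          have : emb (a * b) (M.mul_mem ha hb) = emb a ha + emb b hb :=
            congrArg Additive.ofMul (Subtype.ext (map_mul π a b) :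
              (⟨π (a * b), _⟩ : Mb) = ⟨π a, a, ha, rfl⟩ * ⟨π b, b, hb, rfl⟩)
          rw [this]; exact U.add_mem ha' hb'⟩
        one_mem' := ⟨M.one_mem, by
          have : emb 1 M.one_mem = 0 := congrArg Additive.ofMul (Subtype.ext (map_one π) :
            (⟨π 1, _⟩ : Mb) = 1)
          rw [this]; exact U.zero_mem⟩
        inv_mem' := fun {a} ⟨ha, ha'⟩ => ⟨M.inv_mem ha, by
          have : emb a⁻¹ (M.inv_mem ha) = -emb a ha :=
            congrArg Additive.ofMul (Subtype.ext (map_inv π a) :
              (⟨π a⁻¹, _⟩ : Mb) = (⟨π a, a, ha, rfl⟩ : Mb)⁻¹)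
          rw [this]; exact U.neg_mem ha'⟩ }
    have hUM : Ut ≤ M := fun y hy => hy.1
    have hAU : A ≤ Ut := fun a ha => ⟨hAM ha, by
      have : emb a (hAM ha) = 0 := congrArg Additive.ofMul (Subtype.ext
        ((QuotientGroup.eq_one_iff a).2 ha) : (⟨π a, _⟩ : Mb) = 1)
      rw [this]; exact U.zero_mem⟩
    have hUn : Ut.Normal := ⟨fun y hy g => ⟨hMn.conj_mem y hy.1 g, by
      rw [← hact g y hy.1]; exact hU g _ hy.2⟩⟩
    haveI := hUn
    haveI := hMn
    haveI : (Subgroup.centralizer (Ut : Set G)).Normal := Subgroup.normal_centralizer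
    let P := M ⊓ Subgroup.centralizer (Ut : Set G)
    have hAP : A ≤ P := le_inf hAM fun a ha => Subgroup.mem_centralizer_iff.2 fun y hy =>
      (hcA a ha y (hMC (hUM hy))).symm
    have hinf : Ut ⊓ P = A := h.habel _ inferInstance (le_inf hAU hAP)
      (inf_le_left.trans hUM) (fun x hx y hy => Subgroup.mem_centralizer_iff.1 hy.2.2 x hx.1)
    let U' : AddSubgroup W :=
      { carrier := {w | ∃ y, ∃ hy : y ∈ M, w = emb y hy ∧ y ∈ P}
        add_mem' := by
          rintro _ _ ⟨a, ha, rfl, haP⟩ ⟨b, hb, rfl, hbP⟩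
          exact ⟨a * b, M.mul_mem ha hb, congrArg Additive.ofMul (Subtype.ext (map_mul π a b).symm :
            (⟨π a, a, ha, rfl⟩ : Mb) * ⟨π b, b, hb, rfl⟩ = ⟨π (a * b), _⟩), P.mul_mem haP hbP⟩
        zero_mem' := ⟨1, M.one_mem, congrArg Additive.ofMul (Subtype.ext (map_one π).symm :
            (1 : Mb) = ⟨π 1, _⟩), P.one_mem⟩
        neg_mem' := by
          rintro _ ⟨a, ha, rfl, haP⟩
          exact ⟨a⁻¹, M.inv_mem ha, congrArg Additive.ofMul (Subtype.ext (map_inv π a).symm :
            (⟨π a, a, ha, rfl⟩ : Mb)⁻¹ = ⟨π a⁻¹, _⟩), P.inv_mem haP⟩ }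
    have hbot : U ⊓ U' = ⊥ := by
      rw [eq_bot_iff]
      rintro w ⟨hwU, y, hy, rfl, hyP⟩
      have : y ∈ A := hinf ▸ (⟨⟨hy, hwU⟩, hyP⟩ : y ∈ Ut ⊓ P)
      rw [AddSubgroup.mem_bot]
      exact congrArg Additive.ofMul (Subtype.ext
        ((QuotientGroup.eq_one_iff y).2 this) : (⟨π y, _⟩ : Mb) = 1)
    refine ⟨U', ?_, hbot, ?_⟩
    · rintro g _ ⟨y, hy, rfl, hyP⟩
      haveI : P.Normal := inferInstance
      exact ⟨_, hMn.conj_mem y hy g, hact g y hy, Subgroup.Normal.conj_mem inferInstance y hyP g⟩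
    · have hb := pairing_bound A M Ut A le_rfl hAU (fun a ha x hx => hcA a ha x (hMC hx))
        (fun a ha y hy => hcA a ha y (hMC (hUM hy))) (fun x hx b hb => (hcA b hb x (hMC hx)).symm)
        (fun x hx y hy => h.hMA x hx y (hUM hy)) (fun y hy z hz => h.hMA y (hUM hy) z (hUM hz))
      have hcU : Nat.card U = Nat.card (Ut.map π) := by
        refine Nat.card_congr (Equiv.ofBijective (fun w => ⟨(w.1.toMul : G ⧸ A), ?_⟩) ⟨?_, ?_⟩)
        · obtain ⟨y, hy, he⟩ := hsurj w.1
          exact ⟨y, ⟨hy, he ▸ w.2⟩, by rw [he]; rfl⟩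
        · intro a b hab
          exact Subtype.ext (Additive.toMul.injective (Subtype.ext
            (show (a.1.toMul : G ⧸ A) = b.1.toMul from (by have := congrArg Subtype.val hab; exact this))))
        · rintro ⟨_, y, ⟨hy, hyU⟩, rfl⟩
          exact ⟨⟨emb y hy, hyU⟩, rfl⟩
      have hcU' : Nat.card U' = Nat.card (P.map π) := by
        refine Nat.card_congr (Equiv.ofBijective (fun w => ⟨(w.1.toMul : G ⧸ A), ?_⟩) ⟨?_, ?_⟩)
        · obtain ⟨y, hy, he, hyP⟩ := w.2
          exact ⟨y, hyP, by rw [he]; rfl⟩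
        · intro a b hab
          exact Subtype.ext (Additive.toMul.injective (Subtype.ext
            (show (a.1.toMul : G ⧸ A) = b.1.toMul from (by have := congrArg Subtype.val hab; exact this))))
        · rintro ⟨_, y, hyP, rfl⟩
          exact ⟨⟨emb y hyP.1, y, hyP.1, rfl, hyP⟩, rfl⟩
      have hprod : Nat.card W ≤ Nat.card U * Nat.card U' := by
        rw [hcU, hcU', hW]
        have e1 := card_map_mk A Ut hAU
        have e2 := card_map_mk A P hAP
        have hA0 : 0 < Nat.card A := Nat.card_pos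
        refine Nat.le_of_mul_le_mul_right ?_ (Nat.mul_pos hA0 hA0)
        calc m * (Nat.card A * Nat.card A) = Nat.card M * Nat.card A := by rw [hm]; ring
          _ ≤ Nat.card P * Nat.card Ut := hb
          _ = _ := by rw [← e1, ← e2]; ring
      let f : U × U' → W := fun p => p.1.1 + p.2.1
      have hf : Function.Injective f := by
        rintro ⟨a, b⟩ ⟨c, d⟩ hcd
        have h1 : a.1 - c.1 = d.1 - b.1 := by
          have h2 : a.1 + b.1 = c.1 + d.1 := hcd
          rw [sub_eq_sub_iff_add_eq_add, h2, add_comm]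
        have h2 : a.1 - c.1 ∈ U ⊓ U' := ⟨U.sub_mem a.2 c.2, h1 ▸ U'.sub_mem d.2 b.2⟩
        rw [hbot, AddSubgroup.mem_bot] at h2
        rw [h2] at h1
        exact Prod.ext (Subtype.ext (sub_eq_zero.1 h2)) (Subtype.ext (sub_eq_zero.1 h1.symm).symm)
      have hbij := (Nat.bijective_iff_injective_and_card f).2 ⟨hf, le_antisymm
        (Nat.card_le_card_of_injective f hf) (by rw [Nat.card_prod]; exact hprod)⟩
      rw [eq_top_iff]
      intro w _
      obtain ⟨p, rfl⟩ := hbij.2 w
      exact AddSubgroup.mem_sup.2 ⟨p.1.1, p.1.2, p.2.1, p.2.2, rfl⟩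
  -- the permutation group
  let S := (MulAction.toPermHom G W).range
  letI : DistribMulAction S W := permAct G W
  haveI : FaithfulSMul S W := ⟨fun {a b} hab => Subtype.ext (Equiv.ext hab)⟩
  have hcrS : CR S W := by
    intro U hU
    obtain ⟨U', h1, h2, h3⟩ := hcr U (fun g v hv => hU ⟨_, g, rfl⟩ v hv)
    refine ⟨U', ?_, h2, h3⟩
    rintro ⟨_, g, rfl⟩ v hv
    exact h1 g v hv
  let f := (MulAction.toPermHom G W).rangeRestrict
  let C' := C.map f
  haveI : C'.Normal := hCn.map f (MonoidHom.rangeRestrict_surjective _)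
  have hker : ∀ x ∈ C, (∀ w : W, x • w = w) → x ∈ M := by
    intro x hx hfix
    refine h.hK x hx fun y hy => ?_
    have h1 := hfix (emb y hy)
    rw [hact x y hy] at h1
    replace h1 := (hemb _ (hMn.conj_mem y hy x) _ hy).1 h1
    have h2 : ⁅x, y⁆ = y * (y⁻¹ * (x * y * x⁻¹)) * y⁻¹ := by
      simp only [commutatorElement_def]; group
    have h3 : y⁻¹ * (x * y * x⁻¹) ∈ A := by
      have := A.inv_mem h1
      simpa [mul_assoc] using this
    rw [h2]
    exact hAn.conj_mem _ h3 y
  have hMfix : ∀ x ∈ M, ∀ w : W, x • w = w := by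
    intro x hx w
    obtain ⟨y, hy, rfl⟩ := hsurj w
    rw [hact x y hy]
    refine (hemb _ (hMn.conj_mem y hy x) _ hy).2 ?_
    have h2 : (x * y * x⁻¹)⁻¹ * y = ⁅x, y⁻¹⁆ := by simp only [commutatorElement_def]; group
    rw [h2]
    exact h.hMA x hx _ (M.inv_mem hy)
  have hcardC : Nat.card C = Nat.card C' * Nat.card M := by
    let φ := f.comp C.subtype
    have hr : φ.range = C' := by rw [MonoidHom.range_comp, Subgroup.range_subtype]
    have hk : φ.ker = M.subgroupOf C := by
      ext x
      rw [MonoidHom.mem_ker, Subgroup.mem_subgroupOf]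
      constructor
      · intro hx
        exact hker x x.2 fun w => congrArg (fun p : S => p.1 w) hx
      · intro hx
        exact Subtype.ext (Equiv.ext fun w => hMfix x hx w)
    rw [← hr, ← Subgroup.index_ker, hk, ← Nat.card_congr (Subgroup.subgroupOfEquivOfLe hMC).toEquiv,
      mul_comm, Subgroup.card_mul_index]
  have hoddS : Odd (Nat.card S) := odd_range hodd _
  have hoddC : Odd (Nat.card C') := hoddS.of_dvd_nat (Subgroup.card_subgroup_dvd_card C')
  have hS2 : Nat.card S ≤ m ^ 2 :=
    hW ▸ card_le_sq_of_reg inferInstance (hMain S W hoddS hcrS hW.le)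
  haveI : Group.IsSolvable C' := Cfsg.Agent.S0205.result hoddC
  refine ⟨Nat.card C', hcardC, hoddC, (Subgroup.card_le_card_group C').trans hS2,
    fun r j hr hmj => ?_⟩
  haveI := Fact.mk hr
  have hexp : ∀ w : W, r • w = 0 := by
    intro w
    obtain ⟨y, hy, rfl⟩ := hsurj w
    have h1 := h.pow_mem hr (j := j) (by rw [hm, hmj]) y hy
    show Additive.ofMul ((⟨π y, y, hy, rfl⟩ : Mb) ^ r) = 0
    refine congrArg Additive.ofMul (Subtype.ext ?_ : (⟨π y, y, hy, rfl⟩ : Mb) ^ r = 1)
    show π y ^ r = 1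
    rw [← map_pow]
    exact (QuotientGroup.eq_one_iff _).2 h1
  haveI : FaithfulSMul C' W := ⟨fun {a b} hab => Subtype.ext (Subtype.ext (Equiv.ext hab))⟩
  refine ⟨card_dvd_gl hr hexp (hW.trans hmj), fun a t ht htr hdvd => ?_, ?_⟩
  · refine card_le_of_no_char_pgroup hr ht htr hdvd fun R hR hRp => ?_
    haveI := hR
    haveI : (R.map C'.subtype).Normal := ConjAct.normal_of_characteristic_of_normal
    rw [eq_bot_iff]
    intro x hx
    rw [Subgroup.mem_bot]
    exact Subtype.ext (FaithfulSMul.eq_of_smul_eq_smul fun w : W => by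
      show (x : S) • w = (1 : S) • w
      rw [one_smul]
      exact normal_pgroup_trivial hcrS hr hexp (R.map C'.subtype) (hRp.map _) (x : S)
        ⟨x, hx, rfl⟩ w)
  · -- no element of order 13 on a four-dimensional symplectic space over three
    rintro rfl rfl h13
    haveI : Fact (Nat.Prime 13) := ⟨by norm_num⟩
    obtain ⟨σ, hσ⟩ := exists_prime_orderOf_dvd_card' (G := C') 13 h13
    obtain ⟨⟨σ, hσC⟩, hσ⟩ := (⟨σ, hσ⟩ : ∃ σ : C', orderOf σ = 13)
    obtain ⟨g, hg, hgσ⟩ := hσC
    rw [← Subgroup.orderOf_coe] at hσ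
    simp only at hσ
    let Z := Subgroup.zpowers σ
    have hZp : IsPGroup 13 Z := IsPGroup.of_card (n := 1) (by rw [Nat.card_zpowers, hσ, pow_one])
    let F : AddSubgroup W :=
      { carrier := {w | g • w = w}
        add_mem' := fun ha hb => by
          show g • (_ + _) = _
          rw [smul_add, ha, hb]
        zero_mem' := smul_zero g
        neg_mem' := fun ha => by
          show g • (-_) = _
          rw [smul_neg, ha] }
    have hfixZ : ∀ w : W, w ∈ MulAction.fixedPoints Z W ↔ w ∈ F := by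
      intro w
      constructor
      · intro hw
        have h2 : σ • w = w := hw ⟨σ, Subgroup.mem_zpowers σ⟩
        rw [← hgσ] at h2
        exact h2
      · intro hw z
        have h1 : σ ∈ MulAction.stabilizer S w := by rw [← hgσ]; exact hw
        exact (Subgroup.zpowers_le.2 h1) z.2
    have hF : Nat.card W ≡ Nat.card F [MOD 13] := by
      refine (hZp.card_modEq_card_fixedPoints W).trans ?_
      rw [Nat.card_congr (Equiv.subtypeEquivRight hfixZ)]
    rw [hW, hmj] at hF
    obtain ⟨d, hd⟩ := card_natPrime_pow_eq (V := F) hr (fun w => Subtype.ext (by simpa using hexp w.1))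
    have hdle : d ≤ 4 := by
      have := Nat.le_of_dvd Nat.card_pos (AddSubgroup.card_addSubgroup_dvd_card F)
      rw [hd, hW, hmj] at this
      exact (Nat.pow_le_pow_iff_right (by norm_num)).1 this
    rw [hd] at hF
    have hd1 : d = 1 ∨ d = 4 := by
      interval_cases d <;> simp_all [Nat.ModEq]
    rcases hd1 with rfl | rfl
    swap
    · have htop : F = ⊤ := AddSubgroup.eq_top_of_card_eq F (by rw [hd, hW, hmj])
      have : σ = 1 := Subtype.ext (Equiv.ext fun w => by
        have hw : w ∈ F := htop ▸ AddSubgroup.mem_top w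
        rw [← hgσ]
        exact hw)
      rw [this, orderOf_one] at hσ
      norm_num at hσ
    haveI : Nontrivial F := Finite.one_lt_card_iff_nontrivial.1 (by rw [hd]; norm_num)
    obtain ⟨⟨w, hw⟩, hwne⟩ := exists_ne (0 : F)
    obtain ⟨x, hx, rfl⟩ := hsurj w
    have hxA : x ∉ A := fun hxA => hwne (Subtype.ext (congrArg Additive.ofMul (Subtype.ext
      ((QuotientGroup.eq_one_iff x).2 hxA) : (⟨π x, x, hx, rfl⟩ : Mb) = 1)))
    have hgx : (g * x * g⁻¹)⁻¹ * x ∈ A := by
      have h1 : g • emb x hx = emb x hx := hw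
      rw [hact g x hx] at h1
      exact (hemb _ (hMn.conj_mem x hx g) _ hx).1 h1
    let P := M ⊓ Subgroup.centralizer ({x} : Set G)
    have hAP : A ≤ P := le_inf hAM fun a ha => Subgroup.mem_centralizer_iff.2 fun y hy => by
      rw [Set.mem_singleton_iff] at hy
      subst hy
      exact (hcA a ha y (hMC hx)).symm
    have hPne : P ≠ M := fun hP => hxA (h.hZ ▸ ⟨hx, Subgroup.mem_centralizer_iff.2 fun y hy =>
      (Subgroup.mem_centralizer_iff.1 (hP.symm ▸ hy : y ∈ P).2 x rfl).symm⟩)
    have hPconj : ∀ y ∈ P, g * y * g⁻¹ ∈ P := by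
      intro y hy
      refine ⟨hMn.conj_mem y hy.1 g, Subgroup.mem_centralizer_iff.2 fun z hz => ?_⟩
      rw [Set.mem_singleton_iff] at hz
      subst hz
      have h1 : z * y = y * z := Subgroup.mem_centralizer_iff.1 hy.2 z rfl
      have h2 : Commute (g * z * g⁻¹) (g * y * g⁻¹) := by
        show _ * _ = _ * _
        simp only [conj_mul, h1]
      have h3 : Commute ((g * z * g⁻¹)⁻¹ * z) (g * y * g⁻¹) :=
        hcA _ hgx _ (hMC (hMn.conj_mem y hy.1 g))
      have h4 := h2.mul_left h3
      rwa [mul_inv_cancel_left] at h4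
    let E : SubMulAction Z W :=
      { carrier := {w | ∃ y, ∃ hy : y ∈ P, w = emb y hy.1}
        smul_mem' := by
          rintro ⟨z, hz⟩ _ ⟨y, hy, rfl⟩
          obtain ⟨k, rfl⟩ := (Submonoid.mem_powers_iff _ _).1
            ((isOfFinOrder_of_finite σ).mem_powers_iff_mem_zpowers.2 hz)
          induction k generalizing y with
          | zero => exact ⟨y, hy, by simp⟩
          | succ k ih =>
            obtain ⟨y', hy', he⟩ := ih y hy (pow_mem (Subgroup.mem_zpowers σ) k)
            refine ⟨g * y' * g⁻¹, hPconj y' hy', ?_⟩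
            rw [← hact g y' hy'.1, ← he]
            show (σ ^ (k + 1)) • emb y hy.1 = g • (σ ^ k • emb y hy.1)
            rw [pow_succ', mul_smul, ← hgσ]
            rfl }
    have hE : Nat.card E = Nat.card (P.map π) := by
      refine Nat.card_congr (Equiv.ofBijective (fun w => ⟨(w.1.toMul : G ⧸ A), ?_⟩) ⟨?_, ?_⟩)
      · obtain ⟨y, hy, he⟩ := w.2
        exact ⟨y, hy, by rw [he]; rfl⟩
      · intro a b hab
        exact Subtype.ext (Additive.toMul.injective (Subtype.ext
          (show (a.1.toMul : G ⧸ A) = b.1.toMul from (by have := congrArg Subtype.val hab; exact this))))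
      · rintro ⟨_, y, hy, rfl⟩
        exact ⟨⟨emb y hy.1, y, hy, rfl⟩, rfl⟩
    have hE27 : Nat.card E = 27 := by
      haveI := hAn
      let L := A ⊔ Subgroup.zpowers x
      have hLC : L ≤ M := sup_le hAM (Subgroup.zpowers_le.2 hx)
      have hb := pairing_bound A M L A le_rfl le_sup_left (fun a ha z hz => hcA a ha z (hMC hz))
        (fun a ha y hy => hcA a ha y (hMC (hLC hy))) (fun z hz b hb => (hcA b hb z (hMC hz)).symm)
        (fun z hz y hy => h.hMA z hz y (hLC hy)) (fun y hy z hz => h.hMA y (hLC hy) z (hLC hz))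
      have hle : (M ⊓ Subgroup.centralizer (L : Set G) : Subgroup G) ≤ P := fun z hz =>
        ⟨hz.1, Subgroup.mem_centralizer_iff.2 fun y hy => by
          rw [Set.mem_singleton_iff] at hy
          subst hy
          exact Subgroup.mem_centralizer_iff.1 hz.2 y
            (Subgroup.mem_sup_right (Subgroup.mem_zpowers y))⟩
      have hLcard : Nat.card (L.map π) ≤ 3 := by
        rw [Subgroup.map_sup, show A.map π = ⊥ from QuotientGroup.map_mk'_self A, bot_sup_eq,
          MonoidHom.map_zpowers, Nat.card_zpowers]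
        refine Nat.le_of_dvd (by norm_num) (orderOf_dvd_of_pow_eq_one ?_)
        rw [← map_pow]
        exact (QuotientGroup.eq_one_iff _).2 (h.pow_mem hr (j := 4) (by rw [hm, hmj]) x hx)
      have e1 := card_map_mk A P hAP
      have e2 := card_map_mk A L le_sup_left
      have hA0 : 0 < Nat.card A := Nat.card_pos
      have h3 : 3 ^ 4 ≤ 3 * Nat.card (P.map π) := by
        refine Nat.le_of_mul_le_mul_right ?_ (Nat.mul_pos hA0 hA0)
        calc 3 ^ 4 * (Nat.card A * Nat.card A) = Nat.card M * Nat.card A := by rw [hm, hmj]; ring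
          _ ≤ Nat.card P * Nat.card L :=
              hb.trans (Nat.mul_le_mul_right _ (Subgroup.card_le_of_le hle))
          _ = Nat.card (P.map π) * Nat.card (L.map π) * (Nat.card A * Nat.card A) := by
              rw [← e1, ← e2]; ring
          _ ≤ _ := by
              rw [mul_comm 3]
              exact Nat.mul_le_mul_right _ (Nat.mul_le_mul_left _ hLcard)
      have hlt : Nat.card P < Nat.card M :=
        lt_of_le_of_ne (Subgroup.card_le_of_le inf_le_left) fun h =>
          hPne (Subgroup.eq_of_le_of_card_ge inf_le_left h.ge)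
      have hdvd : Nat.card (P.map π) ∣ 3 ^ 4 := by
        have h5 := Subgroup.card_dvd_of_le (Subgroup.map_mono (f := π) (inf_le_left : P ≤ M))
        have h6 := card_map_mk A M hAM
        rw [hm, hmj, mul_comm (Nat.card A)] at h6
        rwa [Nat.eq_of_mul_eq_mul_right hA0 h6] at h5
      obtain ⟨i, hi, hiP⟩ := (Nat.dvd_prime_pow hr).1 hdvd
      rw [hE, hiP]
      have h7 : Nat.card (P.map π) < 3 ^ 4 := by
        rw [hm, hmj, ← e1, mul_comm (Nat.card A)] at hlt
        exact Nat.lt_of_mul_lt_mul_right hlt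
      rw [hiP] at h3 h7
      interval_cases i <;> simp_all
    have hmod := hZp.card_modEq_card_fixedPoints E
    rw [hE27] at hmod
    have hsub : Nat.card (MulAction.fixedPoints Z E) ≤ 3 := by
      have hc3 : Nat.card F = 3 := by rw [hd, pow_one]
      rw [← hc3]
      refine Nat.card_le_card_of_injective (fun e => ⟨e.1.1, (hfixZ _).1 fun z =>
        congrArg Subtype.val (e.2 z)⟩) fun a b hab => ?_
      exact Subtype.ext (Subtype.ext (congrArg (fun q : F => q.1) hab))
    have hxE : emb x hx ∈ E := ⟨x, ⟨hx, Subgroup.mem_centralizer_iff.2 fun y hy => by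
      rw [Set.mem_singleton_iff] at hy; rw [hy]⟩, rfl⟩
    have h0E : (0 : W) ∈ E := ⟨1, P.one_mem,
      congrArg Additive.ofMul (Subtype.ext (map_one π).symm : (1 : Mb) = ⟨π 1, _⟩)⟩
    have h2 : 2 ≤ Nat.card (MulAction.fixedPoints Z E) := by
      let a : MulAction.fixedPoints Z E := ⟨⟨_, hxE⟩, fun z => Subtype.ext ((hfixZ _).2 hw z)⟩
      let b : MulAction.fixedPoints Z E := ⟨⟨0, h0E⟩, fun z => Subtype.ext ((hfixZ _).2 F.zero_mem z)⟩
      haveI : Nontrivial (MulAction.fixedPoints Z E) := ⟨⟨a, b, fun hab => hwne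
        (Subtype.ext (congrArg (fun q : MulAction.fixedPoints Z E => q.1.1) hab))⟩⟩
      exact Finite.one_lt_card
    generalize Nat.card (MulAction.fixedPoints Z E) = c at hsub h2 hmod
    interval_cases c <;> simp [Nat.ModEq] at hmod

end Cfsg.Agent.OP71
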