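import Cfsg.Agent.Lib.OddPair71.Alg
import Cfsg.Agent.S0205

/-!
# Structure above a maximal abelian normal subgroup
-/

set_option autoImplicit false
set_option linter.unusedSectionVars false
set_option linter.style.haveILetI false

open scoped commutatorElement

namespace Cfsg.Agent.OP71

variable {G : Type} [Group G] [Finite G]

/-- elements commute modulo `A` -/
def CommMod (A N : Subgroup G) : Prop := ∀ x ∈ N, ∀ y ∈ N, ⁅x, y⁆ ∈ A

/-- the data of a maximal class two subgroup above a maximal abelian normal subgroup -/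
structure TwoStep (A M : Subgroup G) : Prop where
  hAn : A.Normal
  hMn : M.Normal
  hAM : A ≤ M
  hMC : M ≤ Subgroup.centralizer (A : Set G)
  hMA : CommMod A M
  hZ : M ⊓ Subgroup.centralizer (M : Set G) = A
  hK : ∀ x ∈ Subgroup.centralizer (A : Set G), (∀ y ∈ M, ⁅x, y⁆ ∈ A) → x ∈ M
  hsym : ∃ L : Subgroup G, A ≤ L ∧ L ≤ M ∧
    Nat.card M * Nat.card A = Nat.card L * Nat.card L
  habel : ∀ N : Subgroup G, N.Normal → A ≤ N → N ≤ M →
    (∀ x ∈ N, ∀ y ∈ N, x * y = y * x) → N = A

theorem exists_twoStep (hodd : Odd (Nat.card G)) (A : Subgroup G) [hAn : A.Normal] [IsCyclic A]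
    (hmax : ∀ N : Subgroup G, N.Normal → A ≤ N → (∀ x ∈ N, ∀ y ∈ N, x * y = y * x) → N = A) :
    ∃ M, TwoStep A M := by
  classical
  let C := Subgroup.centralizer (A : Set G)
  haveI hCn : C.Normal := Subgroup.normal_centralizer
  have hAab : ∀ x ∈ A, ∀ y ∈ A, x * y = y * x := fun x hx y hy => by
    letI : CommGroup A := IsCyclic.commGroup
    exact congrArg Subtype.val (mul_comm (⟨x, hx⟩ : A) ⟨y, hy⟩)
  have hAC : A ≤ C := fun x hx => Subgroup.mem_centralizer_iff.2 fun y hy => hAab y hy x hx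
  obtain ⟨M, ⟨hMn, hAM, hMC, hMA⟩, hMmax⟩ := Set.exists_max_image
    {N : Subgroup G | N.Normal ∧ A ≤ N ∧ N ≤ C ∧ CommMod A N} (fun N => Nat.card N)
    (Set.toFinite _) ⟨A, hAn, le_rfl, hAC, fun x hx y hy => by
      rw [commutatorElement_eq_one_iff_mul_comm.2 (hAab x hx y hy)]; exact A.one_mem⟩
  have hcA : ∀ a ∈ A, ∀ x ∈ C, a * x = x * a := fun a ha x hx =>
    Subgroup.mem_centralizer_iff.1 hx a ha
  -- nothing outside `A` centralises `M`
  have hCM : C ⊓ Subgroup.centralizer (M : Set G) = A := by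
    haveI := hMn
    let D := C ⊓ Subgroup.centralizer (M : Set G)
    haveI : (Subgroup.centralizer (M : Set G)).Normal := Subgroup.normal_centralizer
    have hAD : A ≤ D := le_inf hAC fun a ha => Subgroup.mem_centralizer_iff.2 fun y hy =>
      (hcA a ha y (hMC hy)).symm
    have hZle : M ⊓ Subgroup.centralizer (M : Set G) = A := hmax _ inferInstance
      (le_inf hAM (hAD.trans inf_le_right))
      (fun x hx y hy => Subgroup.mem_centralizer_iff.1 hy.2 x hx.1)
    by_contra hne
    let π := QuotientGroup.mk' A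
    let Db := D.map π
    haveI : Db.Normal := Subgroup.Normal.map inferInstance π (QuotientGroup.mk'_surjective A)
    haveI : Group.IsSolvable G := Cfsg.Agent.S0205.result hodd
    haveI : Group.IsSolvable Db := inferInstance
    have hDb : Db ≠ ⊥ := by
      intro h
      apply hne
      refine le_antisymm (fun x hx => ?_) hAD
      have : π x ∈ Db := ⟨x, hx, rfl⟩
      rw [h, Subgroup.mem_bot] at this
      exact (QuotientGroup.eq_one_iff x).1 this
    haveI : Nontrivial Db := (Subgroup.nontrivial_iff_ne_bot _).2 hDb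
    obtain ⟨m, hm⟩ := Group.IsSolvable.solvable (G := Db)
    have hex : ∃ k, derivedSeries Db k ≠ ⊥ ∧ derivedSeries Db (k + 1) = ⊥ := by
      by_contra hno'
      push Not at hno'
      have : ∀ k, derivedSeries Db k ≠ ⊥ := fun k => by
        induction k with
        | zero => rw [derivedSeries_zero]; exact top_ne_bot
        | succ k ih => exact hno' k ih
      exact this m hm
    obtain ⟨k, hk1, hk2⟩ := hex
    let Lb := (derivedSeries Db k).map Db.subtype
    haveI : (derivedSeries Db k).Characteristic := derivedSeries_characteristic Db k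
    haveI : Lb.Normal := ConjAct.normal_of_characteristic_of_normal
    let L := Lb.comap π
    have hLn : L.Normal := inferInstance
    have hAL : A ≤ L := fun a ha => by
      show π a ∈ Lb
      rw [show π a = 1 from (QuotientGroup.eq_one_iff a).2 ha]
      exact Lb.one_mem
    have hLD : L ≤ D := fun x hx => by
      have h1 : π x ∈ Db := Subgroup.map_subtype_le _ hx
      obtain ⟨d, hd, hdx⟩ := h1
      have : d⁻¹ * x ∈ A := QuotientGroup.eq.1 hdx
      have h2 := D.mul_mem hd (hAD this)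
      rwa [mul_inv_cancel_left] at h2
    have hLA : ∀ x ∈ L, ∀ y ∈ L, π x * π y = π y * π x := by
      intro x hx y hy
      obtain ⟨a, ha, hax⟩ := hx
      obtain ⟨b, hb, hby⟩ := hy
      have h1 := Subgroup.commutator_mem_commutator ha hb
      rw [← derivedSeries_succ, hk2, Subgroup.mem_bot, commutatorElement_eq_one_iff_mul_comm] at h1
      rw [← hax, ← hby, ← map_mul, ← map_mul, h1]
    have hN : CommMod A (M ⊔ L) := by
      haveI := hLn
      intro x hx y hy
      obtain ⟨m₁, hm₁, l₁, hl₁, rfl⟩ := Subgroup.mem_sup_of_normal_left.1 hx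
      obtain ⟨m₂, hm₂, l₂, hl₂, rfl⟩ := Subgroup.mem_sup_of_normal_left.1 hy
      rw [← QuotientGroup.eq_one_iff]
      show π ⁅m₁ * l₁, m₂ * l₂⁆ = 1
      rw [map_commutatorElement, commutatorElement_eq_one_iff_mul_comm, map_mul, map_mul]
      have hMM : π m₁ * π m₂ = π m₂ * π m₁ := by
        rw [← commutatorElement_eq_one_iff_mul_comm, ← map_commutatorElement]
        exact (QuotientGroup.eq_one_iff _).2 (hMA _ hm₁ _ hm₂)
      have hml : ∀ m ∈ M, ∀ l ∈ L, π m * π l = π l * π m := fun m hm l hl => by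
        rw [← map_mul, ← map_mul, Subgroup.mem_centralizer_iff.1 (hLD hl).2 m hm]
      have c1 : Commute (π l₁) (π m₂) := (hml _ hm₂ _ hl₁).symm
      have c2 : Commute (π m₁) (π m₂) := hMM
      have c3 : Commute (π l₁) (π l₂) := hLA _ hl₁ _ hl₂
      have c4 : Commute (π m₁) (π l₂) := hml _ hm₁ _ hl₂
      exact ((c2.mul_right c4).mul_left (c1.mul_right c3)).eq
    haveI := hLn
    have hle : L ≤ M := by
      have heq : M = M ⊔ L := Subgroup.eq_of_le_of_card_ge le_sup_left
        (hMmax _ ⟨inferInstance, hAM.trans le_sup_left, sup_le hMC (hLD.trans inf_le_left), hN⟩)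
      rw [heq]; exact le_sup_right
    have hLeq : L = A := le_antisymm
      (hZle ▸ le_inf hle (hLD.trans inf_le_right)) hAL
    apply hk1
    rw [eq_bot_iff]
    intro a ha
    obtain ⟨x, hx⟩ := QuotientGroup.mk'_surjective A (a : G ⧸ A)
    have hxL : x ∈ L := ⟨a, ha, hx.symm⟩
    rw [hLeq] at hxL
    rw [Subgroup.mem_bot]
    exact Subtype.ext (hx.symm.trans ((QuotientGroup.eq_one_iff x).2 hxL))
  have hMcA : ∀ a ∈ A, ∀ x ∈ M, a * x = x * a := fun a ha x hx => hcA a ha x (hMC hx)
  refine ⟨M, hAn, hMn, hAM, hMC, hMA, ?_, ?_, ?_, fun N hN h1 _ h2 => hmax N hN h1 h2⟩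
  · refine le_antisymm (fun x hx => hCM ▸ ⟨hMC hx.1, hx.2⟩) (fun a ha => ⟨hAM ha, ?_⟩)
    exact Subgroup.mem_centralizer_iff.2 fun y hy => (hMcA a ha y hy).symm
  · intro x hx hxM
    let X : Subgroup G :=
      { carrier := {z | z ∈ C ∧ ∀ y ∈ M, ⁅z, y⁆ ∈ A}
        mul_mem' := fun {z w} hz hw => ⟨C.mul_mem hz.1 hw.1, fun y hy => by
          rw [comm_mul_left (hw.2 y hy) (fun a ha => hcA a ha z hz.1)]
          exact A.mul_mem (hw.2 y hy) (hz.2 y hy)⟩
        one_mem' := ⟨C.one_mem, fun y _ => by rw [commutatorElement_one_left]; exact A.one_mem⟩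
        inv_mem' := fun {z} hz => ⟨C.inv_mem hz.1, fun y hy => by
          have h : ⁅z⁻¹, y⁆ = z⁻¹ * ⁅z, y⁆⁻¹ * z := by simp only [commutatorElement_def]; group
          rw [h]
          exact hAn.conj_mem' _ (A.inv_mem (hz.2 y hy)) z⟩ }
    have h := pairing_bound A X M A le_rfl hAM (fun a ha z hz => hcA a ha z hz.1) hMcA
      (fun z hz b hb => (hcA b hb z hz.1).symm) (fun z hz y hy => hz.2 y hy) hMA
    have hle : (X ⊓ Subgroup.centralizer (M : Set G) : Subgroup G) ≤ A :=
      fun z hz => hCM ▸ ⟨hz.1.1, hz.2⟩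
    have h1 : Nat.card X * Nat.card A ≤ Nat.card M * Nat.card A :=
      h.trans (by rw [mul_comm (Nat.card M)]; exact Nat.mul_le_mul_right _ (Subgroup.card_le_of_le hle))
    have hMX : M ≤ X := fun y hy => ⟨hMC hy, hMA y hy⟩
    have := Subgroup.eq_of_le_of_card_ge hMX (Nat.le_of_mul_le_mul_right h1 Nat.card_pos)
    exact this ▸ (show x ∈ X from ⟨hx, hxM⟩)
  · obtain ⟨L, ⟨hAL, hLM, hLc⟩, hLmax⟩ := Set.exists_max_image
      {L : Subgroup G | A ≤ L ∧ L ≤ M ∧ ∀ x ∈ L, ∀ y ∈ L, x * y = y * x} (fun L => Nat.card L)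
      (Set.toFinite _) ⟨A, le_rfl, hAM, hAab⟩
    refine ⟨L, hAL, hLM, le_antisymm ?_ ?_⟩
    · have h := pairing_bound A M L A le_rfl hAL hMcA (fun a ha y hy => hMcA a ha y (hLM hy))
        (fun z hz b hb => (hMcA b hb z hz).symm) (fun z hz y hy => hMA z hz y (hLM hy))
        (fun y hy z hz => hMA y (hLM hy) z (hLM hz))
      refine h.trans (Nat.mul_le_mul_right _ (Subgroup.card_le_of_le ?_))
      rintro z ⟨hzM, hzL⟩
      have hcl : ∀ x ∈ (L : Set G) ∪ {z}, ∀ y ∈ (L : Set G) ∪ {z}, x * y = y * x := by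
        rintro x (hx | rfl) y (hy | rfl)
        · exact hLc x hx y hy
        · exact Subgroup.mem_centralizer_iff.1 hzL x hx
        · exact (Subgroup.mem_centralizer_iff.1 hzL y hy).symm
        · rfl
      let L' := Subgroup.closure ((L : Set G) ∪ {z})
      haveI : IsMulCommutative L' := Subgroup.isMulCommutative_closure hcl
      have hLL' : L ≤ L' := fun y hy => Subgroup.subset_closure (Or.inl hy)
      have hle : L' ≤ M := (Subgroup.closure_le _).2 (by
        rintro y (hy | rfl)
        exacts [hLM hy, hzM])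
      have heq : L = L' := Subgroup.eq_of_le_of_card_ge hLL'
        (hLmax _ ⟨hAL.trans hLL', hle, fun x hx y hy =>
          congrArg Subtype.val (IsMulCommutative.is_comm.comm (⟨x, hx⟩ : L') ⟨y, hy⟩)⟩)
      rw [heq]
      exact Subgroup.subset_closure (Or.inr rfl)
    · have h := pairing_bound A L M L hAL hLM (fun a ha y hy => hMcA a ha y (hLM hy)) hMcA
        (fun x hx y hy => hLc x hx y hy) (fun z hz y hy => hMA z (hLM hz) y hy) hMA
      refine h.trans ?_
      rw [mul_comm (Nat.card M)]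
      exact Nat.mul_le_mul_right _ (Subgroup.card_le_of_le fun z hz =>
        hCM ▸ ⟨hMC (hLM hz.1), hz.2⟩)

/-- prime power factor groups are elementary -/
theorem TwoStep.pow_mem {A M : Subgroup G} (h : TwoStep A M) {r : ℕ} (hr : r.Prime) {j : ℕ}
    (hj : Nat.card M = Nat.card A * r ^ j) (x : G) (hx : x ∈ M) : x ^ r ∈ A := by
  obtain ⟨hAn, hMn, hAM, hMC, hMA, -, -, -, habel⟩ := h
  have hcA : ∀ a ∈ A, ∀ x ∈ M, a * x = x * a := fun a ha x hx =>
    Subgroup.mem_centralizer_iff.1 (hMC hx) a ha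
  have hpow : ∀ a ∈ M, ∀ b ∈ M, ∀ k : ℕ, ⁅a, b ^ k⁆ = ⁅a, b⁆ ^ k := by
    intro a ha b hb k
    induction k with
    | zero => simp
    | succ k ih =>
      rw [pow_succ, pow_succ, comm_mul_right (hMA a ha b hb) (fun c hc => hcA c hc _ (M.pow_mem hb k)),
        ih]
  have hpow' : ∀ a ∈ M, ∀ b ∈ M, ∀ k : ℕ, ⁅a ^ k, b⁆ = ⁅a, b⁆ ^ k := by
    intro a ha b hb k
    rw [← inv_inj, commutatorElement_inv, ← inv_pow, commutatorElement_inv, hpow b hb a ha k]
  have htop : ∀ x ∈ M, x ^ r ^ j ∈ A := by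
    intro x hx
    haveI : (A.subgroupOf M).Normal := hAn.subgroupOf M
    have hidx : (A.subgroupOf M).index = r ^ j := by
      have h1 := Subgroup.card_mul_index (A.subgroupOf M)
      rw [Nat.card_congr (Subgroup.subgroupOfEquivOfLe hAM).toEquiv, hj] at h1
      exact Nat.eq_of_mul_eq_mul_left Nat.card_pos h1
    have h2 := Subgroup.pow_index_mem (A.subgroupOf M) ⟨x, hx⟩
    rw [hidx] at h2
    exact h2
  have hstep : ∀ i, 1 ≤ i → (∀ x ∈ M, x ^ r ^ (i + 1) ∈ A) → ∀ x ∈ M, x ^ r ^ i ∈ A := by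
    intro i hi hup x hx
    let S : Set G := (A : Set G) ∪ (fun y => y ^ r ^ i) '' (M : Set G)
    have hcomm : ∀ a ∈ S, ∀ b ∈ S, a * b = b * a := by
      have hM : ∀ a ∈ S, a ∈ M := by
        rintro a (ha | ⟨y, hy, rfl⟩)
        exacts [hAM ha, M.pow_mem hy _]
      rintro a (ha | ⟨y, hy, rfl⟩) b hb
      · exact hcA a ha b (hM b hb)
      · rcases hb with hb | ⟨z, hz, rfl⟩
        · exact (hcA b hb _ (M.pow_mem hy _)).symm
        · apply commutatorElement_eq_one_iff_mul_comm.1
          show ⁅y ^ r ^ i, z ^ r ^ i⁆ = 1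
          rw [hpow _ (M.pow_mem hy _) z hz, hpow' y hy z hz, ← pow_mul, ← pow_add,
            show i + i = (i + 1) + (i - 1) by omega, pow_add, pow_mul, ← hpow' y hy z hz,
            commutatorElement_eq_one_iff_mul_comm.2 (hcA _ (hup y hy) z hz), one_pow]
    let N := Subgroup.closure S
    have hNn : N.Normal := ⟨fun a ha g => by
      have h1 : N ≤ N.comap (MulAut.conj g).toMonoidHom := (Subgroup.closure_le _).2 fun b hb => by
        show g * b * g⁻¹ ∈ N
        apply Subgroup.subset_closure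
        rcases hb with hb | ⟨y, hy, rfl⟩
        · exact Or.inl (hAn.conj_mem b hb g)
        · exact Or.inr ⟨g * y * g⁻¹, hMn.conj_mem y hy g, by simp [conj_pow]⟩
      exact h1 ha⟩
    haveI : IsMulCommutative N := Subgroup.isMulCommutative_closure hcomm
    have hle : N ≤ M := (Subgroup.closure_le _).2 (by
      rintro a (ha | ⟨y, hy, rfl⟩)
      exacts [hAM ha, M.pow_mem hy _])
    have heq := habel N hNn (fun a ha => Subgroup.subset_closure (Or.inl ha)) hle fun a ha b hb =>
      congrArg Subtype.val (IsMulCommutative.is_comm.comm (⟨a, ha⟩ : N) ⟨b, hb⟩)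
    rw [← heq]
    exact Subgroup.subset_closure (Or.inr ⟨x, hx, rfl⟩)
  rcases Nat.eq_zero_or_pos j with rfl | hjpos
  · exact A.pow_mem (by simpa using htop x hx) r
  have hdown : ∀ d i, i + d = j → 1 ≤ i → ∀ x ∈ M, x ^ r ^ i ∈ A := by
    intro d
    induction d with
    | zero => intro i h _; rw [show i = j by omega]; exact htop
    | succ d ih => intro i h h1; exact hstep i h1 (ih (i + 1) (by omega) (by omega))
  simpa using hdown (j - 1) 1 (by omega) le_rfl x hx

end Cfsg.Agent.OP71
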